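import Mathlib

/-!
Kernel-checked coset tables for groups with a letter for each inverse of a generator.

A node `c < n` stands for a coset; `T g c` is the image of `c` under the generator number `g`.
Every table entry carries a time `TM g c` and a justification `J g c`: a tree entry, a scan of a
relator or subgroup word all of whose other entries are older, or a small separate derivation.
-/

set_option autoImplicit false

namespace H93
namespace CosetI

/-- evaluate `k` at the value of `x` -/
noncomputable def force {α : Type} (x : ℕ) (k : ℕ → α) : α :=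
  Nat.rec (motive := fun _ => α) (k 0) (fun m _ => k (Nat.succ m)) x

theorem force_eq {α : Type} (x : ℕ) (k : ℕ → α) : force x k = k x := by
  cases x <;> rfl

noncomputable def allRange (lo : ℕ) (len : ℕ) (f : ℕ → Bool) : Bool :=
  Nat.rec (motive := fun _ => Bool) true
    (fun m ih => Bool.rec (motive := fun _ => Bool) false (f (Nat.add lo m)) ih) len

theorem allRange_spec {lo len : ℕ} {f : ℕ → Bool} (h : allRange lo len f = true) :
    ∀ c, lo ≤ c → c < lo + len → f c = true := by
  induction len with
  | zero => intro c h1 h2; omega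
  | succ m ih =>
    intro c h1 h2
    have h' : allRange lo m f = true ∧ f (lo + m) = true := by
      have hh : Bool.rec (motive := fun _ => Bool) false (f (lo + m)) (allRange lo m f) = true := h
      cases hm : allRange lo m f <;> simp [hm] at hh
      exact ⟨rfl, hh⟩
    rcases Nat.lt_succ_iff_lt_or_eq.mp (show c < (lo + m) + 1 by omega) with h3 | h3
    · exact ih h'.1 c h1 h3
    · exact h3 ▸ h'.2

/-- conjunction, as a recursor -/
noncomputable def band (a b : Bool) : Bool := Bool.rec (motive := fun _ => Bool) false b a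

/-- disjunction, as a recursor -/
noncomputable def bor (a b : Bool) : Bool := Bool.rec (motive := fun _ => Bool) b true a

theorem band_iff {a b : Bool} : band a b = true ↔ a = true ∧ b = true := by
  cases a <;> simp [band]

theorem bor_iff {a b : Bool} : bor a b = true ↔ a = true ∨ b = true := by
  cases a <;> simp [bor]

/-- the end of the path with word `w` starting at `c` satisfies `k` -/
noncomputable def walk (T : ℕ → ℕ → ℕ) (w : List ℕ) (c : ℕ) (k : ℕ → Bool) : Bool :=
  List.rec (motive := fun _ => ℕ → Bool) k (fun g _ ih c => force (T g c) ih) w c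

/-- path all of whose edges are older than `t` -/
noncomputable def walkT (T TM : ℕ → ℕ → ℕ) (t : ℕ) (w : List ℕ) (c : ℕ) (k : ℕ → Bool) : Bool :=
  List.rec (motive := fun _ => ℕ → Bool) k
    (fun g _ ih c => Nat.blt (TM g c) t && force (T g c) ih) w c

def pathEnd (T : ℕ → ℕ → ℕ) : List ℕ → ℕ → ℕ
  | [], c => c
  | g :: w, c => pathEnd T w (T g c)

@[simp] theorem walk_eq (T : ℕ → ℕ → ℕ) (w : List ℕ) (c : ℕ) (k : ℕ → Bool) :
    walk T w c k = k (pathEnd T w c) := by
  induction w generalizing c with
  | nil => rfl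
  | cons g w ih =>
    show force (T g c) (fun c => walk T w c k) = _
    rw [force_eq]; exact ih _

theorem walkT_nil (T TM : ℕ → ℕ → ℕ) (t c : ℕ) (k : ℕ → Bool) : walkT T TM t [] c k = k c := rfl

theorem walkT_cons (T TM : ℕ → ℕ → ℕ) (t g : ℕ) (w : List ℕ) (c : ℕ) (k : ℕ → Bool) :
    walkT T TM t (g :: w) c k = (Nat.blt (TM g c) t && walkT T TM t w (T g c) k) := by
  show (Nat.blt (TM g c) t && force (T g c) (fun c => walkT T TM t w c k)) = _
  rw [force_eq]

/-- a relator is a pair (word, exponent) -/
abbrev Rel := List ℕ × ℕ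

def expand (r : Rel) : List ℕ := (List.replicate r.2 r.1).flatten

structure Data where
  n : ℕ
  ng : ℕ
  /-- image + 2^17 · time + 2^25 · justification -/
  EN : ℕ → ℕ → ℕ
  PA : ℕ → ℕ
  /-- relator words followed by subgroup words -/
  words : List (List ℕ)
  nrel : ℕ
  /-- the letter of the inverse -/
  iv : ℕ → ℕ

namespace Data

variable (D : Data)

def T (g c : ℕ) : ℕ := Nat.land (D.EN g c) 131071
def TM (g c : ℕ) : ℕ := Nat.land (Nat.shiftRight (D.EN g c) 17) 255
def J (g c : ℕ) : ℕ := Nat.shiftRight (D.EN g c) 25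

/-- continue at the image of an entry that is older than `t` -/
noncomputable def older (t e : ℕ) (k : ℕ → Bool) : Bool :=
  Bool.rec (motive := fun _ => Bool) false (force (Nat.land e 131071) k)
    (Nat.blt (Nat.land (Nat.shiftRight e 17) 255) t)

/-- `walkT` with one look-up for each step -/
noncomputable def walkE (t : ℕ) (w : List ℕ) (c : ℕ) (k : ℕ → Bool) : Bool :=
  List.rec (motive := fun _ => ℕ → Bool) k
    (fun g _ ih c => force (D.EN g c) fun e => older t e ih) w c

theorem walkE_eq (t : ℕ) (w : List ℕ) (c : ℕ) (k : ℕ → Bool) :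
    D.walkE t w c k = walkT D.T D.TM t w c k := by
  induction w generalizing c with
  | nil => rfl
  | cons g w ih =>
    rw [walkT_cons, ← ih]
    show (force (D.EN g c) fun e => older t e fun c => D.walkE t w c k) = _
    rw [force_eq]
    unfold TM T older
    cases Nat.blt (Nat.land (Nat.shiftRight (D.EN g c) 17) 255) t <;> simp [force_eq]

/-- the checks behind the edge at its other end -/
noncomputable def scanEnd (r b t : ℕ) (suf : List ℕ) (s : ℕ) : Bool :=
  band (bor (Nat.blt r D.nrel) (Nat.beq s 0)) (D.walkE t suf b (fun e => Nat.beq e s))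

/-- walk backwards through a word -/
noncomputable def back (t : ℕ) (w : List ℕ) (k : ℕ → Bool) : ℕ → Bool :=
  List.rec (motive := fun _ => (ℕ → Bool) → ℕ → Bool) (fun k => k)
    (fun g _ ih k => ih fun x => force (D.EN (D.iv g) x) fun e => older t e k) w k

noncomputable def scanAt (r g c b t p : ℕ) (w : List ℕ) : Bool :=
  List.rec (motive := fun _ => Bool) false
    (fun g' suf _ => band (Nat.beq g' g) (D.back t (w.take p) (D.scanEnd r b t suf) c)) (w.drop p)

noncomputable def scan (g c b t r p : ℕ) : Bool :=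
  Option.rec (motive := fun _ => Bool) false (D.scanAt r g c b t p) D.words[r]?

/-- justification `j` of the edge (g, c, b): a tree edge, or relator number plus one and position
of the edge in it; the start of the scan is found by walking back from `c` -/
noncomputable def justOK (g c b t j : ℕ) : Bool :=
  Bool.rec (motive := fun _ => Bool)
    (force (Nat.sub (Nat.mod j 64) 1) fun r => force (Nat.div j 64) (D.scan g c b t r))
    (band (Nat.blt c b) (band (Nat.beq (Nat.mod (D.PA b) 64) g) (Nat.beq (Nat.div (D.PA b) 64) c)))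
    (Nat.beq j 0)

noncomputable def edge4 (g c b h e t : ℕ) : Bool :=
  Bool.rec (motive := fun _ => Bool) (D.justOK h b c t (Nat.shiftRight e 26))
    (D.justOK g c b t (Nat.shiftRight e 26)) (Nat.beq (Nat.land (Nat.shiftRight e 25) 1) 0)

noncomputable def edge3 (g c b h e e' : ℕ) : Bool :=
  band (Nat.beq (Nat.land e' 131071) c)
    (bor (Nat.blt b c) (bor (band (Nat.beq b c) (Nat.blt h g))
      (band (Nat.beq (Nat.land (Nat.shiftRight e' 17) 255) (Nat.land (Nat.shiftRight e 17) 255))
        (force (Nat.land (Nat.shiftRight e 17) 255) (D.edge4 g c b h e)))))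

noncomputable def edge2 (g c h e b : ℕ) : Bool :=
  band (Nat.blt b D.n) (force (D.EN h b) (D.edge3 g c b h e))

noncomputable def edge1 (g h c e : ℕ) : Bool := force (Nat.land e 131071) (D.edge2 g c h e)

/-- all checks at the edge (g, c): the justification sits at one of the endpoints, the lowest
bit after the time tells the direction -/
noncomputable def edgeOK (g c : ℕ) : Bool :=
  force (D.iv g) fun h => band (Nat.blt h D.ng) (band (Nat.beq (D.iv h) g) (force (D.EN g c) (D.edge1 g h c)))

noncomputable def edgesOK (g lo len : ℕ) : Bool :=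
  force (D.iv g) fun h => band (Nat.blt h D.ng) (band (Nat.beq (D.iv h) g)
    (allRange lo len fun c => force (D.EN g c) (D.edge1 g h c)))

theorem edgesOK_spec {g lo len : ℕ} (h : D.edgesOK g lo len = true) {c : ℕ} (h1 : lo ≤ c)
    (h2 : c < lo + len) : D.edgeOK g c = true := by
  simp only [edgesOK, force_eq, band_iff] at h
  simp only [edgeOK, force_eq, band_iff]
  refine ⟨h.1, h.2.1, ?_⟩
  have := allRange_spec h.2.2 c h1 h2
  simpa [force_eq] using this

/-- a relator acts trivially on all nodes in a range -/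
noncomputable def relOK (w : List ℕ) (lo len : ℕ) : Bool :=
  allRange lo len fun c => walk D.T w c fun e => Nat.beq e c

noncomputable def iter (W : ℕ → ℕ) (k c : ℕ) (f : ℕ → Bool) : Bool :=
  Nat.rec (motive := fun _ => ℕ → Bool) f (fun _ ih c => force (W c) ih) k c

/-- a relator `u ^ k`, using a table `W` for `u` -/
noncomputable def powOK (u : List ℕ) (k : ℕ) (W : ℕ → ℕ) (lo len : ℕ) : Bool :=
  allRange lo len fun c => (walk D.T u c fun e => Nat.beq e (W c)) && iter W k c (fun e => Nat.beq e c)

end Data

/-! ### Semantics -/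

variable {G X : Type*} [Group G] [MulAction G X] (gen : ℕ → G) (x₀ : X)

def ev : List ℕ → G
  | [] => 1
  | g :: w => ev w * gen g

theorem ev_append (u v : List ℕ) : ev gen (u ++ v) = ev gen v * ev gen u := by
  induction u with
  | nil => simp [ev]
  | cons g u ih => simp [ev, ih, mul_assoc]

theorem ev_expand (u : List ℕ) (k : ℕ) : ev gen (expand (u, k)) = ev gen u ^ k := by
  induction k with
  | zero => simp [expand, ev]
  | succ k ih =>
    simp only [expand, List.replicate_succ, List.flatten_cons, ev_append] at ih ⊢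
    rw [ih, pow_succ]

theorem ev_reverse {m : ℕ} {iv : ℕ → ℕ} (hinv : ∀ g < m, gen (iv g) * gen g = 1) (u : List ℕ)
    (hu : ∀ g ∈ u, g < m) : ev gen (u.map iv).reverse = (ev gen u)⁻¹ := by
  induction u with
  | nil => simp [ev]
  | cons g u ih =>
    have h1 : (gen g)⁻¹ = gen (iv g) := inv_eq_of_mul_eq_one_left (hinv g (hu g (by simp)))
    rw [List.map_cons, List.reverse_cons, ev_append, ih (fun a ha => hu a (by simp [ha]))]
    simp [ev, h1]

theorem ev_eq_prod (w : List ℕ) : ev gen w = (w.map gen).reverse.prod := by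
  induction w with
  | nil => simp [ev]
  | cons g w ih => simp [ev, ih]

namespace Data

variable (D : Data)

/-- the point attached to a node, defined along the tree -/
noncomputable def node (c : ℕ) : X :=
  if _h : c = 0 then x₀ else gen (D.PA c % 64) • node (min (D.PA c / 64) (c - 1))
termination_by c
decreasing_by omega

/-- the table is proved below time `t` -/
def KnownBelow (t : ℕ) : Prop :=
  ∀ g c, g < D.ng → c < D.n → D.TM g c < t → gen g • D.node gen x₀ c = D.node gen x₀ (D.T g c)

structure Hyp : Prop where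
  pos : 0 < D.n
  inv : ∀ g < D.ng, gen (D.iv g) * gen g = 1
  ivlt : ∀ g < D.ng, D.iv g < D.ng
  rels : ∀ (r : ℕ) (w : List ℕ), D.words[r]? = some w → r < D.nrel → ∀ x : X, ev gen w • x = x
  subs : ∀ (r : ℕ) (w : List ℕ), D.words[r]? = some w → ev gen w • x₀ = x₀
  letters : ∀ w ∈ D.words, ∀ g ∈ w, g < D.ng
  closed : ∀ g < D.ng, ∀ c < D.n, D.T g c < D.n
  edges : ∀ g < D.ng, ∀ c < D.n, D.edgeOK g c = true

variable {gen x₀} {D}

theorem node_zero : D.node gen x₀ 0 = x₀ := by
  rw [node]; simp

theorem walkT_sound (h : Hyp gen x₀ D) {t : ℕ} (hk : D.KnownBelow gen x₀ t) (w : List ℕ) :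
    ∀ {c : ℕ} {k : ℕ → Bool}, (∀ g ∈ w, g < D.ng) → c < D.n →
      walkT D.T D.TM t w c k = true →
      ev gen w • D.node gen x₀ c = D.node gen x₀ (pathEnd D.T w c) ∧
        pathEnd D.T w c < D.n ∧ k (pathEnd D.T w c) = true := by
  induction w with
  | nil =>
    intro c k _ hc hw
    rw [walkT_nil] at hw
    exact ⟨by simp [ev, pathEnd], hc, hw⟩
  | cons g w ih =>
    intro c k hl hc hw
    rw [walkT_cons, Bool.and_eq_true] at hw
    have hg : g < D.ng := hl g (by simp)
    have h1 : D.TM g c < t := by simpa [Nat.blt] using hw.1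
    rw [ev, mul_smul, hk g c hg hc h1]
    exact ih (fun a ha => hl a (by simp [ha])) (h.closed g hg c hc) hw.2

theorem blt_iff {a b : ℕ} : Nat.blt a b = true ↔ a < b := by simp [Nat.blt]

theorem back_sound (h : Hyp gen x₀ D) {t : ℕ} (hk : D.KnownBelow gen x₀ t) (w : List ℕ) :
    ∀ {k : ℕ → Bool} {c : ℕ}, (∀ g ∈ w, g < D.ng) → c < D.n → D.back t w k c = true →
      ∃ s, s < D.n ∧ k s = true ∧ ev gen w • D.node gen x₀ s = D.node gen x₀ c := by
  induction w with
  | nil => intro k c _ hc hb; exact ⟨c, hc, hb, by simp [ev]⟩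
  | cons g w ih =>
    intro k c hl hc hb
    obtain ⟨x, hx, hkx, he⟩ := ih (k := fun x => force (D.EN (D.iv g) x) fun e => older t e k)
      (fun a ha => hl a (by simp [ha])) hc hb
    have hg : g < D.ng := hl g (by simp)
    rw [force_eq] at hkx
    have hlt : D.TM (D.iv g) x < t ∧ k (D.T (D.iv g) x) = true := by
      unfold older at hkx
      unfold TM T
      cases hb : Nat.blt (Nat.land (Nat.shiftRight (D.EN (D.iv g) x) 17) 255) t <;> rw [hb] at hkx
      · exact absurd hkx (by simp)
      · exact ⟨by simpa [Nat.blt] using hb, by simpa [force_eq] using hkx⟩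
    refine ⟨D.T (D.iv g) x, h.closed _ (h.ivlt g hg) x hx, hlt.2, ?_⟩
    rw [← hk _ x (h.ivlt g hg) hx hlt.1, ev, mul_smul, ← mul_smul (gen g),
      show gen g * gen (D.iv g) = 1 from mul_eq_one_comm.mp (h.inv g hg), one_smul, he]

theorem justOK_sound (h : Hyp gen x₀ D) {j g c b t : ℕ} (hg : g < D.ng) (hc : c < D.n) (hb : b < D.n)
    (hk : D.KnownBelow gen x₀ t) (hj : D.justOK g c b t j = true) :
    gen g • D.node gen x₀ c = D.node gen x₀ b := by
  simp only [justOK, force_eq] at hj
  rcases h0 : Nat.beq j 0 with _ | _ <;> rw [h0] at hj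
  swap
  · simp only [band_iff, blt_iff, Nat.beq_eq] at hj
    obtain ⟨h1, h2, h3⟩ := hj
    have h2' : D.PA b % 64 = g := h2
    have h3' : D.PA b / 64 = c := h3
    conv_rhs => rw [node, dif_neg (by omega), h2', h3', Nat.min_eq_left (by omega)]
  change D.scan g c b t (Nat.sub (Nat.mod j 64) 1) (Nat.div j 64) = true at hj
  generalize Nat.sub (Nat.mod j 64) 1 = r at hj
  generalize Nat.div j 64 = p at hj
  rcases hw : D.words[r]? with _ | w
  · rw [scan, hw] at hj; exact absurd hj (by simp)
  rw [scan, hw] at hj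
  change D.scanAt r g c b t p w = true at hj
  rcases hdrop : w.drop p with _ | ⟨g', suf⟩
  · rw [scanAt, hdrop] at hj; exact absurd hj (by simp)
  rw [scanAt, hdrop] at hj
  change band (Nat.beq g' g) (D.back t (w.take p) (D.scanEnd r b t suf) c) = true at hj
  rw [band_iff, Nat.beq_eq] at hj
  obtain ⟨rfl, hF⟩ := hj
  have hlet := h.letters w (List.mem_of_getElem? hw)
  have hBl := fun a (ha : a ∈ suf) => hlet a (List.mem_of_mem_drop (i := p)
    (by rw [hdrop]; simp [ha]))
  obtain ⟨s, -, hF', eF⟩ := back_sound h hk _ (fun a ha => hlet a (List.mem_of_mem_take ha)) hc hF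
  simp only [scanEnd, band_iff, bor_iff, blt_iff, Nat.beq_eq, walkE_eq] at hF'
  obtain ⟨hrs, hB⟩ := hF'
  obtain ⟨eB, -, hB'⟩ := walkT_sound h hk _ hBl hb hB
  rw [Nat.beq_eq] at hB'
  rw [hB'] at eB
  have hfix : ev gen w • D.node gen x₀ s = D.node gen x₀ s := by
    rcases hrs with hr | hr
    · exact h.rels _ w hw hr _
    · rw [hr, node_zero]; exact h.subs _ w hw
  have hsplit : w = w.take p ++ g' :: suf := by rw [← hdrop, List.take_append_drop]
  conv at hfix => lhs; arg 1; rw [hsplit]
  rw [ev_append, ev, mul_smul, mul_smul, eF] at hfix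
  exact smul_left_cancel _ (hfix.trans eB.symm)

theorem edgeOK_spec {g c : ℕ} (he : D.edgeOK g c = true) :
    D.T g c < D.n ∧ D.iv g < D.ng ∧ D.iv (D.iv g) = g ∧ D.T (D.iv g) (D.T g c) = c := by
  simp only [edgeOK, edge1, edge2, edge3, force_eq, band_iff, blt_iff, Nat.beq_eq] at he
  exact ⟨he.2.2.1, he.1, he.2.1, he.2.2.2.1⟩

theorem Hyp.entry_spec (h : Hyp gen x₀ D) {g c : ℕ} (hg : g < D.ng) (hc : c < D.n) :
    D.T g c < D.n ∧ D.iv g < D.ng ∧ D.iv (D.iv g) = g ∧ D.T (D.iv g) (D.T g c) = c :=
  edgeOK_spec (h.edges g hg c hc)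

theorem table_sound (h : Hyp gen x₀ D) :
    ∀ g c, g < D.ng → c < D.n → gen g • D.node gen x₀ c = D.node gen x₀ (D.T g c) := by
  suffices H : ∀ t, D.KnownBelow gen x₀ t by
    intro g c hg hc; exact H (D.TM g c + 1) g c hg hc (Nat.lt_succ_self _)
  intro t
  induction t with
  | zero => intro g c _ _ hh; omega
  | succ t ih =>
    intro g c hg hc hlt
    rcases Nat.lt_succ_iff_lt_or_eq.mp hlt with hh | hh
    · exact ih g c hg hc hh
    subst hh
    obtain ⟨hb, hh, hiv, hbc⟩ := h.entry_spec hg hc
    have key : ∀ {g c : ℕ}, g < D.ng → c < D.n → D.iv g < D.ng → D.T g c < D.n →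
        ¬ (D.T g c < c ∨ (D.T g c = c ∧ D.iv g < g)) → D.KnownBelow gen x₀ (D.TM g c) →
        gen g • D.node gen x₀ c = D.node gen x₀ (D.T g c) := by
      intro g c hg hc hh hb hge ih
      have he := h.edges g hg c hc
      simp only [edgeOK, edge1, edge2, edge3, force_eq, band_iff, bor_iff, blt_iff, Nat.beq_eq] at he
      obtain ⟨-, -, -, -, hx | hx | ⟨-, hj⟩⟩ := he
      · exact absurd (Or.inl hx) hge
      · exact absurd (Or.inr hx) hge
      change D.edge4 g c (D.T g c) (D.iv g) (D.EN g c) (D.TM g c) = true at hj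
      simp only [edge4] at hj
      rcases hd : Nat.beq (Nat.land (Nat.shiftRight (D.EN g c) 25) 1) 0 with _ | _ <;> rw [hd] at hj
      · have h1 := justOK_sound h hh hb hc ih hj
        rw [← h1, smul_smul, show gen g * gen (D.iv g) = 1 from mul_eq_one_comm.mp (h.inv g hg), one_smul]
      · exact justOK_sound h hg hc hb ih hj
    by_cases hge : D.T g c < c ∨ (D.T g c = c ∧ D.iv g < g)
    · have he' := h.edges _ hh _ hb
      simp only [edgeOK, edge1, edge2, edge3, force_eq, band_iff, bor_iff, blt_iff, Nat.beq_eq] at he'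
      obtain ⟨-, -, -, -, hx⟩ := he'
      have htm : D.TM g c = D.TM (D.iv g) (D.T g c) := by
        rcases hx with hx | hx | ⟨hx, -⟩
        · change D.T (D.iv g) (D.T g c) < D.T g c at hx
          rw [hbc] at hx; omega
        · obtain ⟨hx, hx'⟩ := hx
          change D.T (D.iv g) (D.T g c) = D.T g c at hx
          rw [hbc] at hx; rw [hiv] at hx'; omega
        · change D.TM (D.iv (D.iv g)) (D.T (D.iv g) (D.T g c)) = D.TM (D.iv g) (D.T g c) at hx
          rwa [hiv, hbc] at hx
      have := key hh hb (by rw [hiv]; exact hg) (by rw [hbc]; exact hc) (by rw [hbc, hiv]; omega)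
        (by rw [← htm]; exact ih)
      rw [hbc] at this
      rw [← this, smul_smul, show gen g * gen (D.iv g) = 1 from mul_eq_one_comm.mp (h.inv g hg), one_smul]
    · exact key hg hc hh hb hge ih

/-- every point of the orbit is a node -/
theorem node_surj (h : Hyp gen x₀ D) (hgenG : Subgroup.closure (gen '' {g | g < D.ng}) = ⊤)
    (a : G) : ∃ c < D.n, D.node gen x₀ c = a • x₀ := by
  suffices H : ∀ c < D.n, ∃ d < D.n, D.node gen x₀ d = a • D.node gen x₀ c by
    simpa [node_zero] using H 0 h.pos
  have hmem : a ∈ Subgroup.closure (gen '' {g | g < D.ng}) := hgenG ▸ Subgroup.mem_top a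
  induction hmem using Subgroup.closure_induction'' with
  | mem x hx =>
    obtain ⟨g, hg, rfl⟩ := hx
    exact fun c hc => ⟨_, h.closed g hg c hc, (table_sound h g c hg hc).symm⟩
  | inv_mem x hx =>
    obtain ⟨g, hg, rfl⟩ := hx
    intro c hc
    rw [inv_eq_of_mul_eq_one_left (h.inv g hg)]
    exact ⟨_, h.closed _ (h.ivlt g hg) c hc, (table_sound h _ c (h.ivlt g hg) hc).symm⟩
  | one => exact fun c hc => ⟨c, hc, (one_smul G _).symm⟩
  | mul x y _ _ hx hy =>
    intro c hc
    obtain ⟨d, hd, hd'⟩ := hy c hc
    obtain ⟨e, he, he'⟩ := hx d hd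
    exact ⟨e, he, by rw [he', hd', mul_smul]⟩

end Data

end CosetI
end H93
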