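import Mathlib
import Cfsg.Agent.H93.CI.Table

/-!
Derivations, checked piece by piece, that a word fixes a point.

Node `c` of a derivation has the parent entry `DF c = parent * 64 + letter`; fact `k` has the entry
`E k = a + b * 2^32 + letter * 2^64`. The rule and the two paths of each fact are given in lists.
An item `2 k` reads fact `k` forwards, `2 k + 1` backwards.
-/

set_option autoImplicit false

namespace H93
namespace CosetI

/-- rule, first path, second path -/
abbrev Step := ℕ × List ℕ × List ℕ

structure Deriv where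
  ng : ℕ
  iv : ℕ → ℕ
  words : List (List ℕ)
  nrel : ℕ
  DF : ℕ → ℕ
  E : ℕ → ℕ

namespace Deriv

variable (P : Deriv)

def fA (k : ℕ) : ℕ := Nat.land (P.E k) 4294967295
def fB (k : ℕ) : ℕ := Nat.land (Nat.shiftRight (P.E k) 32) 4294967295
def fG (k : ℕ) : ℕ := Nat.shiftRight (P.E k) 64

def rv (g : ℕ) : ℕ := if g < P.ng then P.iv g else g

def lw (g : ℕ) : List ℕ := if g = P.ng then [] else [g]

/-- word and end of a path through facts below `k` -/
def path (k : ℕ) : List ℕ → ℕ → Option (List ℕ × ℕ)
  | [], a => some ([], a)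
  | z :: zs, a =>
    if z / 2 < k then
      if z % 2 = 0 then
        if P.fA (z / 2) = a then
          (path k zs (P.fB (z / 2))).map fun r => (P.lw (P.fG (z / 2)) ++ r.1, r.2)
        else none
      else
        if P.fB (z / 2) = a then
          (path k zs (P.fA (z / 2))).map fun r => (P.lw (P.rv (P.fG (z / 2))) ++ r.1, r.2)
        else none
    else none

def start (zs : List ℕ) (a : ℕ) : ℕ :=
  match zs with
  | [] => a
  | z :: _ => if z % 2 = 0 then P.fA (z / 2) else P.fB (z / 2)

def stepOK (k : ℕ) : Step → Bool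
  | (0, _, _) =>
    decide (P.fG k < P.ng ∧ P.fA k < P.fB k ∧ P.DF (P.fB k) = P.fA k * 64 + P.fG k ∧ P.fG k < 64)
  | (1, p, _) =>
    match P.path k p (P.fA k) with
    | none => false
    | some (u, e) => decide (e = P.fB k ∧ P.fG k ≤ P.ng ∧ (u = P.lw (P.fG k) ∨
        (P.fG k = P.ng ∧ u.length = 2 ∧ u.getD 1 0 = P.iv (u.getD 0 0) ∧ u.getD 0 0 < P.ng)))
  | (r + 2, pF, pB) =>
    match P.words[r]? with
    | none => false
    | some w =>
      let s := P.start pF (P.fA k)
      match P.path k pF s, P.path k pB s with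
      | some (uF, eF), some (uB, eB) => decide (eF = P.fA k ∧ eB = P.fB k ∧ P.fG k ≤ P.ng ∧
          w = uF ++ P.lw (P.fG k) ++ (uB.map P.iv).reverse ∧ (r < P.nrel ∨ s = 0))
      | _, _ => false

/-- the steps of the facts `k, k + 1, …` -/
noncomputable def stepsOK (l : List Step) (k : ℕ) : Bool :=
  List.rec (motive := fun _ => ℕ → Bool) (fun _ => true)
    (fun s _ ih k => P.stepOK k s && force (k + 1) ih) l k

/-- the final path from node 0 to itself spells the word -/
def finalOK (N : ℕ) (p w : List ℕ) : Bool :=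
  match P.path N p 0 with
  | none => false
  | some (u, e) => decide (u = w ∧ e = 0)

variable {G X : Type*} [Group G] [MulAction G X] (gen : ℕ → G) (x₀ : X)

noncomputable def node (c : ℕ) : X :=
  if _h : c = 0 then x₀ else gen (P.DF c % 64) • node (min (P.DF c / 64) (c - 1))
termination_by c
decreasing_by omega

def Holds (k : ℕ) : Prop :=
  (P.fG k < P.ng ∧ gen (P.fG k) • P.node gen x₀ (P.fA k) = P.node gen x₀ (P.fB k)) ∨
  (P.fG k = P.ng ∧ P.node gen x₀ (P.fA k) = P.node gen x₀ (P.fB k))

structure Hyp : Prop where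
  inv : ∀ g < P.ng, gen (P.iv g) * gen g = 1
  ivlt : ∀ g < P.ng, P.iv g < P.ng
  rels : ∀ w ∈ P.words.take P.nrel, ev gen w = 1
  subs : ∀ w ∈ P.words, ev gen w • x₀ = x₀

variable {P gen x₀}

theorem node_zero : P.node gen x₀ 0 = x₀ := by rw [node]; simp

theorem path_sound (h : P.Hyp gen x₀) {k : ℕ} (hk : ∀ i < k, P.Holds gen x₀ i) (zs : List ℕ) :
    ∀ {a : ℕ} {u : List ℕ} {e : ℕ}, P.path k zs a = some (u, e) →
      (∀ g ∈ u, g < P.ng) ∧ ev gen u • P.node gen x₀ a = P.node gen x₀ e := by
  induction zs with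
  | nil =>
    intro a u e he
    simp [path] at he
    obtain ⟨rfl, rfl⟩ := he
    simp [ev]
  | cons z zs ih =>
    intro a u e he
    simp only [path] at he
    split at he
    swap
    · exact absurd he (by simp)
    rename_i hz
    have key : ∀ g y, (g < P.ng ∧ gen g • P.node gen x₀ a = P.node gen x₀ y) ∨
        (g = P.ng ∧ P.node gen x₀ a = P.node gen x₀ y) →
        (P.path k zs y).map (fun r => (P.lw g ++ r.1, r.2)) = some (u, e) →
        (∀ g ∈ u, g < P.ng) ∧ ev gen u • P.node gen x₀ a = P.node gen x₀ e := by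
      intro g y hact hm
      rcases hp : P.path k zs y with _ | ⟨u', e'⟩
      · rw [hp] at hm; simp at hm
      rw [hp] at hm
      simp only [Option.map_some, Option.some.injEq, Prod.mk.injEq] at hm
      obtain ⟨rfl, rfl⟩ := hm
      obtain ⟨hl, hev⟩ := ih hp
      rcases hact with ⟨h1, h2⟩ | ⟨h1, h2⟩
      · rw [lw, if_neg (Nat.ne_of_lt h1)]
        refine ⟨by simpa using ⟨h1, hl⟩, ?_⟩
        rw [List.singleton_append, ev, mul_smul, h2, hev]
      · rw [lw, if_pos h1]
        exact ⟨by simpa using hl, by rw [List.nil_append, h2, hev]⟩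
    split at he
    · split at he
      swap
      · exact absurd he (by simp)
      rename_i ha
      subst ha
      exact key _ _ (hk _ hz) he
    · split at he
      swap
      · exact absurd he (by simp)
      rename_i ha
      subst ha
      refine key _ _ ?_ he
      rcases hk _ hz with ⟨h1, h2⟩ | ⟨h1, h2⟩
      · left
        simp only [rv, if_pos h1]
        exact ⟨h.ivlt _ h1, by rw [← h2, smul_smul, h.inv _ h1, one_smul]⟩
      · right
        simp only [rv, if_neg (not_lt.mpr h1.ge)]
        exact ⟨h1, h2.symm⟩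

theorem holds_of_lw {k : ℕ} (hg : P.fG k ≤ P.ng)
    (hh : ev gen (P.lw (P.fG k)) • P.node gen x₀ (P.fA k) = P.node gen x₀ (P.fB k)) :
    P.Holds gen x₀ k := by
  rcases Nat.lt_or_eq_of_le hg with h1 | h1
  · rw [lw, if_neg (Nat.ne_of_lt h1)] at hh
    exact Or.inl ⟨h1, by simpa [ev] using hh⟩
  · rw [lw, if_pos h1] at hh
    exact Or.inr ⟨h1, by simpa [ev] using hh⟩

theorem step_sound (h : P.Hyp gen x₀) {k : ℕ} (hk : ∀ i < k, P.Holds gen x₀ i) {s : Step}
    (hok : P.stepOK k s = true) : P.Holds gen x₀ k := by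
  obtain ⟨r, pF, pB⟩ := s
  match r, hok with
  | 0, hok =>
    simp only [stepOK, decide_eq_true_eq] at hok
    obtain ⟨hg, hab, hd, h64⟩ := hok
    refine Or.inl ⟨hg, ?_⟩
    conv_rhs => rw [node, dif_neg (by omega : ¬ P.fB k = 0), hd]
    have e1 : (P.fA k * 64 + P.fG k) % 64 = P.fG k := by omega
    have e2 : (P.fA k * 64 + P.fG k) / 64 = P.fA k := by omega
    rw [e1, e2, Nat.min_eq_left (by omega)]
  | 1, hok =>
    simp only [stepOK] at hok
    split at hok
    · exact absurd hok (by simp)
    rename_i u e hp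
    simp only [decide_eq_true_eq] at hok
    obtain ⟨rfl, hg, hu⟩ := hok
    obtain ⟨-, hev⟩ := path_sound h hk pF hp
    rcases hu with hu | ⟨hge, hlen, h01, hlt⟩
    · exact holds_of_lw hg (hu ▸ hev)
    · refine Or.inr ⟨hge, ?_⟩
      match u, hlen with
      | [x, y], _ =>
        simp at h01 hlt
        subst h01
        simpa [ev, h.inv x hlt] using hev
  | r + 2, hok =>
    simp only [stepOK] at hok
    split at hok
    · exact absurd hok (by simp)
    rename_i w hw
    generalize P.start pF (P.fA k) = s at hok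
    split at hok
    swap
    · exact absurd hok (by simp)
    rename_i uF eF uB eB hF hB
    simp only [decide_eq_true_eq] at hok
    obtain ⟨rfl, rfl, hg, hwd, hrs⟩ := hok
    obtain ⟨-, hevF⟩ := path_sound h hk pF hF
    obtain ⟨hlB, hevB⟩ := path_sound h hk pB hB
    have hfix : ev gen w • P.node gen x₀ s = P.node gen x₀ s := by
      rcases hrs with hr | rfl
      · rw [h.rels w (List.mem_of_getElem? (i := r) (by rw [List.getElem?_take, if_pos hr, hw])),
          one_smul]
      · rw [node_zero]; exact h.subs w (List.mem_of_getElem? hw)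
    rw [hwd, ev_append, ev_append, ev_reverse gen h.inv uB hlB, mul_smul, mul_smul, hevF,
      inv_smul_eq_iff, hevB] at hfix
    exact holds_of_lw hg hfix

/-- one piece of the derivation -/
theorem steps_sound (h : P.Hyp gen x₀) (l : List Step) : ∀ {k : ℕ}, P.stepsOK l k = true →
    (∀ i < k, P.Holds gen x₀ i) → ∀ i < k + l.length, P.Holds gen x₀ i := by
  induction l with
  | nil => intro k _ hk i hi; exact hk i (by simpa using hi)
  | cons s l ih =>
    intro k hok hk i hi
    change (P.stepOK k s && force (k + 1) (P.stepsOK l)) = true at hok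
    simp only [Bool.and_eq_true, force_eq] at hok
    refine ih hok.2 (fun j hj => ?_) i (by simp at hi; omega)
    rcases Nat.lt_succ_iff_lt_or_eq.mp hj with hj | rfl
    · exact hk j hj
    · exact step_sound h hk hok.1

theorem fix_of_word (h : P.Hyp gen x₀) {N : ℕ} (hN : ∀ i < N, P.Holds gen x₀ i) {p w : List ℕ}
    (hfin : P.finalOK N p w = true) : ev gen w • x₀ = x₀ := by
  simp only [finalOK] at hfin
  split at hfin
  · exact absurd hfin (by simp)
  rename_i u e hp
  simp only [decide_eq_true_eq] at hfin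
  obtain ⟨rfl, rfl⟩ := hfin
  obtain ⟨-, hev⟩ := path_sound h hN p hp
  rwa [node_zero] at hev

end Deriv

end CosetI
end H93
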