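import Mathlib
import Cfsg.Agent.H93.CI.Table

/-!
The index and the suborbits read off from a checked coset table.
-/

set_option autoImplicit false

namespace H93
namespace CosetI

open scoped Pointwise

variable (D : Data)

/-- the tree table describes table entries -/
noncomputable def treeOK (lo len : ℕ) : Bool :=
  allRange lo len fun c => Nat.beq c 0 ||
    (force (D.PA c) fun e => Nat.blt (e / 64) c && Nat.blt (e % 64) D.ng &&
      Nat.beq (D.T (e % 64) (e / 64)) c)

/-- certificate (node, parent, subgroup word) for an orbit, accumulated into a bit mask -/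
noncomputable def orbFill : List (ℕ × ℕ × ℕ) → ℕ → Option ℕ
  | [], m => some m
  | (c, p, r) :: l, m =>
    bif Nat.blt c D.n && !(Nat.testBit m c) && Nat.testBit m p &&
        (match D.words[D.nrel + r]? with
        | none => false
        | some w => walk D.T w p fun e => Nat.beq e c) then
      orbFill l (Nat.lor m (2 ^ c))
    else none

structure Tables : Prop where
  pos : 0 < D.n
  edges : ∀ g < D.ng, ∀ c < D.n, D.edgeOK g c = true
  tree : treeOK D 0 D.n = true
  letters : D.words.all (fun w => w.all fun g => Nat.blt g D.ng) = true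
  subfix : (D.words.drop D.nrel).all (fun w => D.relOK w 0 1) = true

variable {D}

theorem Tables.closed (h : Tables D) {g c : ℕ} (hg : g < D.ng) (hc : c < D.n) :
    D.T g c < D.n ∧ D.T (D.iv g) (D.T g c) = c ∧ D.iv g < D.ng ∧ D.iv (D.iv g) = g := by
  obtain ⟨h1, h2, h3, h4⟩ := Data.edgeOK_spec (h.edges g hg c hc)
  exact ⟨h1, h4, h2, h3⟩

theorem Tables.mem_letters (h : Tables D) : ∀ w ∈ D.words, ∀ g ∈ w, g < D.ng := by
  intro w hw g hg
  have := List.all_eq_true.mp h.letters w hw
  simpa [Data.blt_iff] using List.all_eq_true.mp this g hg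

/-- the permutation of the nodes given by a generator -/
noncomputable def perm (D : Data) (g : ℕ) : Equiv.Perm (Fin D.n) :=
  if h : ∀ c : Fin D.n, (D.T g c < D.n ∧ D.T (D.iv g) (D.T g c) = c) ∧
      (D.T (D.iv g) c < D.n ∧ D.T g (D.T (D.iv g) c) = c) then
    { toFun := fun c => ⟨D.T g c, (h c).1.1⟩
      invFun := fun c => ⟨D.T (D.iv g) c, (h c).2.1⟩
      left_inv := fun c => Fin.ext (h c).1.2
      right_inv := fun c => Fin.ext (h c).2.2 }
  else 1

theorem perm_apply (h : Tables D) {g : ℕ} (hg : g < D.ng) (c : Fin D.n) :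
    (perm D g c : ℕ) = D.T g c := by
  obtain ⟨h1, h2, h3, h4⟩ := h.closed hg c.2
  rw [perm, dif_pos fun c => ⟨⟨(h.closed hg c.2).1, (h.closed hg c.2).2.1⟩,
    ⟨(h.closed h3 c.2).1, by have := (h.closed h3 c.2).2.1; rwa [h4] at this⟩⟩]
  rfl

theorem perm_inv (h : Tables D) {g : ℕ} (hg : g < D.ng) : perm D (D.iv g) * perm D g = 1 := by
  ext c
  rw [Equiv.Perm.mul_apply, perm_apply h (h.closed hg c.2).2.2.1, perm_apply h hg,
    Equiv.Perm.one_apply]
  exact (h.closed hg c.2).2.1

theorem ev_perm_apply (h : Tables D) (w : List ℕ) (hw : ∀ g ∈ w, g < D.ng) (c : Fin D.n) :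
    (ev (perm D) w c : ℕ) = pathEnd D.T w c := by
  induction w generalizing c with
  | nil => simp [ev, pathEnd]
  | cons g w ih =>
    rw [ev, Equiv.Perm.mul_apply, ih (fun a ha => hw a (by simp [ha])), perm_apply h (hw g (by simp))]
    rfl

theorem relOK_spec {w : List ℕ} {lo len : ℕ} (h : D.relOK w lo len = true) {c : ℕ} (h1 : lo ≤ c)
    (h2 : c < lo + len) : pathEnd D.T w c = c := by
  have := allRange_spec h c h1 h2
  simpa using this

theorem ev_perm_eq_one (h : Tables D) {w : List ℕ} (hw : ∀ g ∈ w, g < D.ng)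
    (hr : ∀ c < D.n, pathEnd D.T w c = c) : ev (perm D) w = 1 := by
  ext c
  rw [ev_perm_apply h w hw, Equiv.Perm.one_apply]
  exact hr c c.2

theorem pathEnd_append (T : ℕ → ℕ → ℕ) (u v : List ℕ) (c : ℕ) :
    pathEnd T (u ++ v) c = pathEnd T v (pathEnd T u c) := by
  induction u generalizing c with
  | nil => rfl
  | cons g u ih => exact ih _

theorem pathEnd_lt (h : Tables D) (w : List ℕ) (hw : ∀ g ∈ w, g < D.ng) {c : ℕ} (hc : c < D.n) :
    pathEnd D.T w c < D.n := by
  induction w generalizing c with
  | nil => exact hc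
  | cons g w ih =>
    exact ih (fun a ha => hw a (by simp [ha])) (h.closed (hw g (by simp)) hc).1

theorem pow_spec (h : Tables D) {u : List ℕ} (hu : ∀ g ∈ u, g < D.ng) {k : ℕ} {W : ℕ → ℕ}
    (hok : D.powOK u k W 0 D.n = true) : ∀ c < D.n, pathEnd D.T (expand (u, k)) c = c := by
  have hW : ∀ c < D.n, pathEnd D.T u c = W c ∧ W^[k] c = c := by
    intro c hc
    have hh := allRange_spec hok c (Nat.zero_le _) (by omega)
    have hit : ∀ (j x : ℕ) (f : ℕ → Bool), Data.iter W j x f = f (W^[j] x) := by
      intro j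
      induction j with
      | zero => intro x f; rfl
      | succ j ih =>
        intro x f
        show force (W x) (fun x => Data.iter W j x f) = _
        rw [force_eq, ih, Function.iterate_succ_apply]
    simpa [hit] using hh
  have hexp : ∀ j c, c < D.n → pathEnd D.T (expand (u, j)) c = W^[j] c ∧ W^[j] c < D.n := by
    intro j
    induction j with
    | zero => intro c hc; exact ⟨rfl, hc⟩
    | succ j ih =>
      intro c hc
      have hlt := pathEnd_lt h u hu hc
      obtain ⟨e1, e2⟩ := ih _ hlt
      simp only [expand, List.replicate_succ, List.flatten_cons] at e1 ⊢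
      rw [pathEnd_append, e1, (hW c hc).1, Function.iterate_succ_apply]
      exact ⟨rfl, (hW c hc).1 ▸ e2⟩
  intro c hc
  rw [(hexp k c hc).1, (hW c hc).2]

variable {G : Type*} [Group G]

/-- the hypotheses tying the tables to a group and a subgroup -/
structure Model (D : Data) (gen : ℕ → G) (H : Subgroup G) : Prop where
  tables : Tables D
  inv : ∀ g < D.ng, gen (D.iv g) * gen g = 1
  generates : Subgroup.closure (gen '' {g | g < D.ng}) = ⊤
  rels : ∀ w ∈ D.words.take D.nrel, ev gen w = 1
  subgroup : H = Subgroup.closure {x | ∃ w ∈ D.words.drop D.nrel, ev gen w = x}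
  action : ∃ φ : G →* Equiv.Perm (Fin D.n), ∀ g < D.ng, φ (gen g) = perm D g

/-- the coset of a node -/
noncomputable def cosetOf (D : Data) (gen : ℕ → G) (H : Subgroup G) (c : Fin D.n) : G ⧸ H :=
  D.node gen ((1 : G) : G ⧸ H) c

variable {gen : ℕ → G} {H : Subgroup G}

theorem mem_take_or_drop {α : Type*} {l : List α} {k r : ℕ} {w : α} (h : l[r]? = some w) :
    (r < k → w ∈ l.take k) ∧ (w ∈ l.take k ∨ w ∈ l.drop k) := by
  refine ⟨fun hr => List.mem_of_getElem? (i := r) (by rw [List.getElem?_take, if_pos hr, h]), ?_⟩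
  have := List.mem_of_getElem? h
  rwa [← List.take_append_drop k l, List.mem_append] at this

theorem Model.hyp (M : Model D gen H) : Data.Hyp gen ((1 : G) : G ⧸ H) D where
  pos := M.tables.pos
  inv := M.inv
  ivlt g hg := (M.tables.closed hg M.tables.pos).2.2.1
  rels r w hw hr x := by rw [M.rels w ((mem_take_or_drop hw).1 hr), one_smul]
  subs r w hw := by
    rcases (mem_take_or_drop (k := D.nrel) hw).2 with h | h
    · rw [M.rels w h, one_smul]
    · show ((ev gen w * 1 : G) : G ⧸ H) = ((1 : G) : G ⧸ H)
      rw [QuotientGroup.eq, mul_one, mul_one, M.subgroup]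
      exact inv_mem (Subgroup.subset_closure ⟨w, h, rfl⟩)
  letters := M.tables.mem_letters
  closed g hg c hc := (M.tables.closed hg hc).1
  edges := M.tables.edges

theorem Model.smul_cosetOf (M : Model D gen H) {g : ℕ} (hg : g < D.ng) (c : Fin D.n) :
    gen g • cosetOf D gen H c = cosetOf D gen H ⟨D.T g c, (M.tables.closed hg c.2).1⟩ :=
  Data.table_sound M.hyp g c hg c.2

theorem Model.ev_smul_cosetOf (M : Model D gen H) (w : List ℕ) (hw : ∀ g ∈ w, g < D.ng) (c : Fin D.n) :
    ev gen w • cosetOf D gen H c = cosetOf D gen H ⟨pathEnd D.T w c, pathEnd_lt M.tables w hw c.2⟩ := by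
  induction w generalizing c with
  | nil => simp [ev, pathEnd]
  | cons g w ih =>
    rw [ev, mul_smul, M.smul_cosetOf (hw g (by simp)), ih (fun a ha => hw a (by simp [ha]))]
    rfl

theorem Model.bijective (M : Model D gen H) : Function.Bijective (cosetOf D gen H) := by
  constructor
  · obtain ⟨φ, hφ⟩ := M.action
    have hev : ∀ w, (∀ g ∈ w, g < D.ng) → φ (ev gen w) = ev (perm D) w := by
      intro w
      induction w with
      | nil => intro _; simp [ev]
      | cons g w ih =>
        intro hw
        rw [ev, map_mul, ih (fun a ha => hw a (by simp [ha])), hφ g (hw g (by simp))]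
        rfl
    have hH : ∀ x ∈ H, φ x ⟨0, M.tables.pos⟩ = ⟨0, M.tables.pos⟩ := by
      intro x hx
      let S : Subgroup G :=
        { carrier := {x | φ x ⟨0, M.tables.pos⟩ = ⟨0, M.tables.pos⟩}
          one_mem' := by simp
          mul_mem' := by
            intro a b ha hb
            show φ (a * b) ⟨0, M.tables.pos⟩ = _
            rw [map_mul, Equiv.Perm.mul_apply, hb, ha]
          inv_mem' := by
            intro a ha
            show φ a⁻¹ ⟨0, M.tables.pos⟩ = _
            rw [map_inv, Equiv.Perm.inv_eq_iff_eq]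
            exact ha.symm }
      refine (show H ≤ S from ?_) hx
      rw [M.subgroup, Subgroup.closure_le]
      rintro _ ⟨w, hw, rfl⟩
      have hl : ∀ g ∈ w, g < D.ng := M.tables.mem_letters w (List.mem_of_mem_drop hw)
      refine Fin.ext ?_
      rw [hev w hl, ev_perm_apply M.tables w hl]
      exact relOK_spec (List.all_eq_true.mp M.tables.subfix w hw) le_rfl Nat.one_pos
    let Ψ : G ⧸ H → Fin D.n := Quotient.lift (fun a => φ a ⟨0, M.tables.pos⟩) (by
      intro a b hab
      have := hH _ (QuotientGroup.leftRel_apply.mp hab)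
      show φ a ⟨0, M.tables.pos⟩ = φ b ⟨0, M.tables.pos⟩
      conv_lhs => rw [← this, ← Equiv.Perm.mul_apply, ← map_mul, mul_inv_cancel_left])
    have hsmul : ∀ (a : G) (y : G ⧸ H), Ψ (a • y) = φ a (Ψ y) := by
      intro a y
      induction y using QuotientGroup.induction_on with
      | _ b =>
        show φ (a * b) ⟨0, M.tables.pos⟩ = φ a (φ b ⟨0, M.tables.pos⟩)
        rw [map_mul, Equiv.Perm.mul_apply]
    have key : ∀ c (hc : c < D.n), Ψ (cosetOf D gen H ⟨c, hc⟩) = ⟨c, hc⟩ := by
      intro c
      induction c using Nat.strong_induction_on with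
      | _ c ih =>
        intro hc
        by_cases h0 : c = 0
        · subst h0
          show Ψ (D.node gen ((1 : G) : G ⧸ H) 0) = _
          rw [Data.node_zero]
          show φ 1 ⟨0, M.tables.pos⟩ = _
          simp
        have ht := allRange_spec M.tables.tree c (Nat.zero_le _) (by omega)
        simp only [force_eq, Bool.or_eq_true, Bool.and_eq_true, Data.blt_iff, Nat.beq_eq] at ht
        obtain ⟨⟨hp, hg⟩, hT⟩ := ht.resolve_left h0
        show Ψ (D.node gen ((1 : G) : G ⧸ H) c) = _
        rw [Data.node, dif_neg h0, Nat.min_eq_left (by omega), hsmul, hφ _ hg]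
        refine Fin.ext ?_
        have := ih (D.PA c / 64) hp (by omega)
        unfold cosetOf at this
        rw [this, perm_apply M.tables hg]
        exact hT
    exact fun c d hcd => ((key c c.2).symm.trans (congrArg Ψ hcd)).trans (key d d.2)
  · intro y
    induction y using QuotientGroup.induction_on with
    | _ a =>
      obtain ⟨c, hc, e⟩ := Data.node_surj M.hyp M.generates a
      exact ⟨⟨c, hc⟩, e.trans (congrArg (fun z : G => (z : G ⧸ H)) (mul_one a))⟩

theorem Model.index_eq (M : Model D gen H) : H.index = D.n := by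
  rw [Subgroup.index, ← Nat.card_congr (Equiv.ofBijective _ M.bijective), Nat.card_fin]

theorem testBit_lor_pow (m c i : ℕ) :
    Nat.testBit (Nat.lor m (2 ^ c)) i = (Nat.testBit m i || decide (c = i)) := by
  show Nat.testBit (m ||| 2 ^ c) i = _
  rw [Nat.testBit_or, Nat.testBit_two_pow]

theorem orbFill_spec (l : List (ℕ × ℕ × ℕ)) : ∀ {m m' : ℕ}, orbFill D l m = some m' →
    (∀ P : ℕ → Prop, (∀ c, Nat.testBit m c = true → P c) →
      (∀ p w, P p → w ∈ D.words.drop D.nrel → P (pathEnd D.T w p)) →
      ∀ c, Nat.testBit m' c = true → P c) ∧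
    ∀ S : Finset ℕ, (∀ c, c ∈ S ↔ Nat.testBit m c = true) →
      ∃ S' : Finset ℕ, (∀ c, c ∈ S' ↔ Nat.testBit m' c = true) ∧ S'.card = S.card + l.length := by
  induction l with
  | nil =>
    intro m m' h
    simp [orbFill] at h
    subst h
    exact ⟨fun P h1 _ => h1, fun S hS => ⟨S, hS, by simp⟩⟩
  | cons e l ih =>
    obtain ⟨c, p, r⟩ := e
    intro m m' h
    simp only [orbFill] at h
    rcases hb : (Nat.blt c D.n && !(Nat.testBit m c) && Nat.testBit m p &&
        (match D.words[D.nrel + r]? with
        | none => false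
        | some w => walk D.T w p fun e => Nat.beq e c)) with _ | _
    · rw [hb] at h; simp at h
    rw [hb, cond_true] at h
    simp only [Bool.and_eq_true, Bool.not_eq_true'] at hb
    obtain ⟨⟨⟨-, hnc⟩, hp⟩, hm⟩ := hb
    split at hm
    · exact absurd hm (by simp)
    rename_i w hw
    simp only [walk_eq, Nat.beq_eq] at hm
    obtain ⟨i1, i2⟩ := ih h
    refine ⟨fun P h1 h2 => i1 P (fun i hi => ?_) h2, fun S hS => ?_⟩
    · rw [testBit_lor_pow, Bool.or_eq_true] at hi
      rcases hi with hi | hi
      · exact h1 i hi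
      · rw [decide_eq_true_eq] at hi
        rw [← hi, ← hm]
        exact h2 p w (h1 p hp) (List.mem_of_getElem? (i := r) (by rw [List.getElem?_drop]; exact hw))
    · obtain ⟨S', h1, h2⟩ := i2 (insert c S) (fun i => by
        rw [Finset.mem_insert, testBit_lor_pow, Bool.or_eq_true, decide_eq_true_eq, hS]
        exact ⟨fun h => h.elim (fun h => Or.inr h.symm) Or.inl, fun h => h.elim Or.inr (fun h => Or.inl h.symm)⟩)
      refine ⟨S', h1, ?_⟩
      rw [h2, Finset.card_insert_of_notMem (by rw [hS, hnc]; simp), List.length_cons]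
      omega

end CosetI
end H93
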