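import Mathlib
import Cfsg.Agent.H93.CI.Index
import Cfsg.Agent.H93.GroupOrder

/-!
All orbits of the subgroup in one table, and simplicity from them.

`OR c` is the number of the orbit of node `c`, plus 16 times the depth in a spanning tree, plus
2^12 times the letter to the node from its parent, plus 2^16 times the parent.
-/

set_option autoImplicit false

namespace H93
namespace CosetI

variable (D : Data) (OR : ℕ → ℕ) (base : ℕ → ℕ) (k : ℕ)

def oid (c : ℕ) : ℕ := Nat.land (OR c) 15

noncomputable def orbSame (i c : ℕ) : Bool :=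
  allRange 0 k fun g => force (Nat.land (D.EN g c) 131071) fun x => Nat.beq (oid OR x) i

noncomputable def orbUp (i c e : ℕ) : Bool :=
  force (Nat.shiftRight e 16) fun p => force (Nat.land (Nat.shiftRight e 12) 15) fun g =>
    band (Nat.blt p D.n) (band (Nat.blt g k) (band (Nat.beq (oid OR p) i)
      (band (Nat.blt (Nat.land (Nat.shiftRight (OR p) 4) 255) (Nat.land (Nat.shiftRight e 4) 255))
        (Nat.beq (Nat.land (D.EN g p) 131071) c))))

noncomputable def orbNode (c e : ℕ) : Bool :=
  force (Nat.land e 15) fun i =>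
    band (orbSame D OR k i c) (bor (Nat.beq c (base i)) (orbUp D OR k i c e))

noncomputable def orbOK (lo len : ℕ) : Bool :=
  allRange lo len fun c => force (OR c) (orbNode D OR base k c)

noncomputable def orbCount (i lo len : ℕ) : ℕ :=
  Nat.rec (motive := fun _ => ℕ) 0
    (fun m ih => Bool.rec (motive := fun _ => ℕ) ih (Nat.succ ih) (Nat.beq (oid OR (Nat.add lo m)) i)) len

variable {D OR base k}

theorem orbCount_eq (i lo len : ℕ) :
    orbCount OR i lo len = ((Finset.Ico lo (lo + len)).filter fun c => oid OR c = i).card := by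
  induction len with
  | zero => simp [orbCount]
  | succ m ih =>
    show Bool.rec (motive := fun _ => ℕ) (orbCount OR i lo m) (orbCount OR i lo m).succ
      (Nat.beq (oid OR (lo + m)) i) = _
    rw [← Nat.add_assoc, ← Finset.insert_Ico_right_eq_Ico_add_one (Nat.le_add_right lo m),
      Finset.filter_insert]
    cases h : Nat.beq (oid OR (lo + m)) i
    · rw [if_neg (fun hh => by rw [hh, Nat.beq_refl] at h; exact absurd h (by simp))]
      exact ih
    · rw [if_pos (Nat.eq_of_beq_eq_true h), Finset.card_insert_of_notMem (by simp), ih]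

theorem orbCount_glue (i lo a b : ℕ) :
    orbCount OR i lo (a + b) = orbCount OR i lo a + orbCount OR i (lo + a) b := by
  induction b with
  | zero => simp [orbCount]
  | succ b ih =>
    show Bool.rec (motive := fun _ => ℕ) (orbCount OR i lo (a + b)) (orbCount OR i lo (a + b)).succ
        (Nat.beq (oid OR (lo + (a + b))) i) = orbCount OR i lo a +
      Bool.rec (motive := fun _ => ℕ) (orbCount OR i (lo + a) b) (orbCount OR i (lo + a) b).succ
        (Nat.beq (oid OR (lo + a + b)) i)
    rw [← Nat.add_assoc lo a b, ih]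
    cases Nat.beq (oid OR (lo + a + b)) i
    · rfl
    · exact (Nat.add_succ _ _).symm

variable {G : Type*} [Group G] {gen : ℕ → G} {H : Subgroup G}

theorem Model.orbit_oid (M : Model D gen H) (hok : ∀ c < D.n, orbNode D OR base k c (OR c) = true)
    (hk : k ≤ D.ng) (hH : H = Subgroup.closure (gen '' {g | g < k})) {i q : ℕ} (hq : q < D.n)
    (hbase : base i = q) (hid : oid OR q = i) {m : ℕ} (hcount : orbCount OR i 0 D.n = m) :
    MulAction.orbit H (cosetOf D gen H ⟨q, hq⟩) = cosetOf D gen H '' {c | oid OR c = i} ∧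
    (MulAction.orbit H (cosetOf D gen H ⟨q, hq⟩)).ncard = m := by
  have hspec : ∀ c < D.n, (∀ g < k, oid OR (D.T g c) = oid OR c) ∧
      (c = base (oid OR c) ∨ (Nat.shiftRight (OR c) 16 < D.n ∧
        Nat.land (Nat.shiftRight (OR c) 12) 15 < k ∧
        oid OR (Nat.shiftRight (OR c) 16) = oid OR c ∧
        Nat.land (Nat.shiftRight (OR (Nat.shiftRight (OR c) 16)) 4) 255 <
          Nat.land (Nat.shiftRight (OR c) 4) 255 ∧
        D.T (Nat.land (Nat.shiftRight (OR c) 12) 15) (Nat.shiftRight (OR c) 16) = c)) := by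
    intro c hc
    have h := hok c hc
    simp only [orbNode, orbUp, force_eq, band_iff, bor_iff, Data.blt_iff, Nat.beq_eq] at h
    refine ⟨fun g hg => ?_, h.2⟩
    have := allRange_spec h.1 g (Nat.zero_le _) (by omega)
    rw [force_eq, Nat.beq_eq] at this
    exact this
  have hreach : ∀ d c (hc : c < D.n), oid OR c = i → Nat.land (Nat.shiftRight (OR c) 4) 255 = d →
      cosetOf D gen H ⟨c, hc⟩ ∈ MulAction.orbit H (cosetOf D gen H ⟨q, hq⟩) := by
    intro d
    induction d using Nat.strong_induction_on with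
    | _ d ih =>
      intro c hc hm hd
      rcases (hspec c hc).2 with hcq | ⟨hp, hg, hpi, hdep, hT⟩
      · rw [hm, hbase] at hcq; subst hcq; exact MulAction.mem_orbit_self _
      obtain ⟨a, ha⟩ := ih _ (hd ▸ hdep) _ hp (hpi.trans hm) rfl
      refine ⟨⟨gen (Nat.land (Nat.shiftRight (OR c) 12) 15),
        hH ▸ Subgroup.subset_closure ⟨_, hg, rfl⟩⟩ * a, ?_⟩
      show (⟨gen (Nat.land (Nat.shiftRight (OR c) 12) 15), _⟩ * a : H) •
        cosetOf D gen H ⟨q, hq⟩ = _
      rw [mul_smul, show a • cosetOf D gen H ⟨q, hq⟩ = _ from ha]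
      show gen (Nat.land (Nat.shiftRight (OR c) 12) 15) • cosetOf D gen H ⟨_, hp⟩ = _
      rw [M.smul_cosetOf (lt_of_lt_of_le hg hk) ⟨_, hp⟩]
      exact congrArg _ (Fin.ext hT)
  have heq : MulAction.orbit H (cosetOf D gen H ⟨q, hq⟩) =
      cosetOf D gen H '' {c | oid OR c = i} := by
    refine Set.Subset.antisymm ?_ ?_
    · have key : ∀ x ∈ Subgroup.closure (gen '' {g | g < k}),
          ∀ y, y ∈ cosetOf D gen H '' {c | oid OR c = i} →
            x • y ∈ cosetOf D gen H '' {c | oid OR c = i} := by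
        intro x hx
        induction hx using Subgroup.closure_induction'' with
        | mem x hx =>
          obtain ⟨g, hg, rfl⟩ := hx
          rintro _ ⟨c, hc, rfl⟩
          refine ⟨⟨D.T g c, (M.tables.closed (lt_of_lt_of_le hg hk) c.2).1⟩, ?_,
            (M.smul_cosetOf (lt_of_lt_of_le hg hk) c).symm⟩
          exact ((hspec c c.2).1 g hg).trans hc
        | inv_mem x hx =>
          obtain ⟨g, hg, rfl⟩ := hx
          rintro _ ⟨c, hc, rfl⟩
          have hg' := lt_of_lt_of_le hg hk
          obtain ⟨-, -, hivlt, hiv⟩ := M.tables.closed hg' c.2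
          obtain ⟨hb, hback, -, -⟩ := M.tables.closed hivlt c.2
          rw [hiv] at hback
          refine ⟨⟨D.T (D.iv g) c, hb⟩, ?_, ?_⟩
          · have := (hspec _ hb).1 g hg
            rw [hback] at this
            exact this.symm.trans hc
          · rw [inv_eq_of_mul_eq_one_left (M.inv g hg'), M.smul_cosetOf hivlt c]
        | one => intro y hy; rwa [one_smul]
        | mul x y _ _ hx hy => intro z hz; rw [mul_smul]; exact hx _ (hy _ hz)
      rintro _ ⟨⟨a, ha⟩, rfl⟩
      exact key a (hH ▸ ha) _ ⟨⟨q, hq⟩, hid, rfl⟩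
    · rintro _ ⟨c, hc, rfl⟩
      exact hreach _ c c.2 hc rfl
  refine ⟨heq, ?_⟩
  rw [heq, Set.ncard_image_of_injective _ M.bijective.injective,
    ← Set.ncard_image_of_injective _ Fin.val_injective, ← hcount, orbCount_eq, ← Set.ncard_coe_finset]
  congr 1
  ext j
  simp only [Set.mem_image, Set.mem_ofPred_eq, Finset.coe_filter, Finset.mem_Ico]
  exact ⟨fun ⟨c, hc, e⟩ => e ▸ ⟨⟨Nat.zero_le _, by omega⟩, hc⟩,
    fun ⟨⟨_, h2⟩, h⟩ => ⟨⟨j, by omega⟩, h, rfl⟩⟩

/-- simplicity from the orbit table: orbit 0 is the base node, the others are `1, …, m` -/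
theorem Model.simple_of_orbit_table (M : Model D gen H) [Finite G] (hcore : H.normalCore = ⊥)
    (hok : ∀ c < D.n, orbNode D OR base k c (OR c) = true)
    (hk : k ≤ D.ng) (hH : H = Subgroup.closure (gen '' {g | g < k}))
    (orbs : List (ℕ × ℕ × ℕ))
    (hbase : ∀ o ∈ orbs, o.1 ≠ oid OR 0 ∧ base o.1 = o.2.1 ∧ o.2.1 < D.n ∧ oid OR o.2.1 = o.1)
    (hcount : ∀ o ∈ orbs, orbCount OR o.1 0 D.n = o.2.2)
    (hdis : orbs.Pairwise fun a b => a.1 ≠ b.1)
    (hn : 1 < D.n) (hsum : (orbs.map fun o => o.2.2).sum + 1 = D.n)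
    (harith : ∀ s ∈ Coset.subsums (orbs.map fun o => o.2.2), (s + 1) ∣ D.n → s = 0 ∨ s + 1 = D.n)
    (w : G) {r h : ℕ} (hG : Nat.card G = D.n * h) (hr : w ^ r = 1) (hco : Nat.Coprime r h)
    (hcollapse : ∀ N : Subgroup G, N.Normal → w ∈ N → N = ⊤) : IsSimpleGroup G := by
  have hcard : Nat.card (G ⧸ H) = D.n := M.index_eq
  classical
  let qf : ℕ × ℕ × ℕ → G ⧸ H := fun o =>
    if hq : o.2.1 < D.n then cosetOf D gen H ⟨o.2.1, hq⟩ else ((1 : G) : G ⧸ H)
  have hor : ∀ o ∈ orbs, MulAction.orbit H (qf o) = cosetOf D gen H '' {c | oid OR c = o.1} ∧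
      (MulAction.orbit H (qf o)).ncard = o.2.2 := by
    intro o ho
    obtain ⟨-, h1, hq, h2⟩ := hbase o ho
    simp only [qf, dif_pos hq]
    exact M.orbit_oid hok hk hH hq h1 h2 (hcount o ho)
  refine Coset.simple_of_orbits (H := H) hn hcard hcore (orbs.map qf)
    (orbs.map fun o => o.2.2) ?_ hsum ?_ ?_ harith w hG hr hco hcollapse
  · rw [List.map_map]
    exact List.map_congr_left fun o ho => (hor o ho).2
  · rw [List.map_map, List.pairwise_map]
    refine hdis.imp_of_mem fun {a b} ha hb hab => ?_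
    simp only [Function.comp_apply, (hor a ha).1, (hor b hb).1]
    rw [Set.disjoint_image_iff M.bijective.injective, Set.disjoint_left]
    exact fun c hca hcb => hab (hca.symm.trans hcb)
  · intro q hq hmem
    obtain ⟨o, ho, rfl⟩ := List.mem_map.mp hq
    rw [(hor o ho).1] at hmem
    obtain ⟨c, hc, he⟩ := hmem
    have h0 : cosetOf D gen H ⟨0, M.tables.pos⟩ = ((1 : G) : G ⧸ H) := Data.node_zero
    rw [← h0] at he
    obtain rfl := M.bijective.injective he
    exact (hbase o ho).1 hc.symm

end CosetI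
end H93
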