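import Mathlib
import Cfsg.Agent.H93.CI.Index
import Cfsg.Agent.H93.GroupOrder

/-!
Order and simplicity from a checked table with inverse letters.
-/

set_option autoImplicit false

namespace H93
namespace CosetI

open scoped Pointwise

variable {D : Data} {G : Type*} [Group G] {gen : ℕ → G}

/-! ### lower bound -/

variable {H : Subgroup G}

/-- the action on the nodes -/
noncomputable def Model.act (M : Model D gen H) : G →* Equiv.Perm (Fin D.n) :=
  (Equiv.ofBijective _ M.bijective).symm.permCongrHom.toMonoidHom.comp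
    (MulAction.toPermHom G (G ⧸ H))

theorem Model.act_apply (M : Model D gen H) (a : G) (c : Fin D.n) :
    cosetOf D gen H (M.act a c) = a • cosetOf D gen H c := by
  show cosetOf D gen H ((Equiv.ofBijective _ M.bijective).symm (a • cosetOf D gen H c)) = _
  exact (Equiv.ofBijective _ M.bijective).apply_symm_apply _

theorem Model.act_ev (M : Model D gen H) (w : List ℕ) (hw : ∀ g ∈ w, g < D.ng) (c : Fin D.n) :
    (M.act (ev gen w) c : ℕ) = pathEnd D.T w c := by
  have h := (M.act_apply (ev gen w) c).trans (M.ev_smul_cosetOf w hw c)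
  exact congrArg Fin.val (M.bijective.injective h)

theorem Model.act_normalCore (M : Model D gen H) {a : G} (ha : a ∈ H.normalCore) : M.act a = 1 := by
  rw [Subgroup.normalCore_eq_ker] at ha
  simp only [Model.act, MonoidHom.comp_apply, (MonoidHom.mem_ker).mp ha, map_one]

/-- the same table with other words -/
def withWords (D : Data) (ws : List (List ℕ)) : Data := { D with words := ws, nrel := 0 }

/-- a level of a chain: point, words fixing the earlier points, certificate of an orbit -/
abbrev Level := ℕ × List (List ℕ) × List (ℕ × ℕ × ℕ)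

noncomputable def levelOK (D : Data) (pts : List ℕ) : Level → Bool
  | (x, ws, l) => Nat.blt x D.n && ws.all (fun w => w.all fun g => Nat.blt g D.ng) &&
      ws.all (fun w => pts.all fun p => walk D.T w p fun e => Nat.beq e p) &&
      (orbFill (withWords D ws) l (2 ^ x)).isSome

noncomputable def chainOK (D : Data) : List ℕ → List Level → Bool
  | _, [] => true
  | pts, L :: ls => levelOK D pts L && chainOK D (L.1 :: pts) ls

def chainProd : List Level → ℕ
  | [] => 1
  | L :: ls => (L.2.2.length + 1) * chainProd ls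

/-- the elements fixing some nodes -/
def fixSub (φ : G →* Equiv.Perm (Fin D.n)) (pts : List ℕ) : Subgroup G where
  carrier := {a | ∀ c : Fin D.n, (c : ℕ) ∈ pts → φ a c = c}
  one_mem' c _ := by simp
  mul_mem' ha hb c hc := by rw [map_mul, Equiv.Perm.mul_apply, hb c hc, ha c hc]
  inv_mem' ha c hc := by rw [map_inv, Equiv.Perm.inv_eq_iff_eq, ha c hc]

theorem Model.chain_step (M : Model D gen H) [Finite G] {pts : List ℕ} {L : Level}
    (h : levelOK D pts L = true) :
    (L.2.2.length + 1) * Nat.card (fixSub M.act (L.1 :: pts)) ≤ Nat.card (fixSub M.act pts) := by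
  obtain ⟨x, ws, l⟩ := L
  simp only [levelOK, Bool.and_eq_true, Data.blt_iff, Option.isSome_iff_exists] at h
  obtain ⟨⟨⟨hx, hlet⟩, hfixw⟩, m, hfill⟩ := h
  letI : MulAction G (Fin D.n) := MulAction.compHom _ M.act
  set P := fixSub M.act pts with hP
  have hlet' : ∀ w ∈ ws, ∀ g ∈ w, g < D.ng := fun w hw g hg => by
    simpa [Data.blt_iff] using List.all_eq_true.mp (List.all_eq_true.mp hlet w hw) g hg
  have hwP : ∀ w ∈ ws, ev gen w ∈ P := fun w hw c hc => by
    refine Fin.ext ?_
    rw [M.act_ev w (hlet' w hw)]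
    simpa using List.all_eq_true.mp (List.all_eq_true.mp hfixw w hw) _ hc
  obtain ⟨s1, s2⟩ := orbFill_spec l hfill
  obtain ⟨S', hS', hcard⟩ := s2 {x} (fun i => by simp [Nat.testBit_two_pow, eq_comm])
  have hreach : ∀ c, Nat.testBit m c = true →
      ∃ hc : c < D.n, (⟨c, hc⟩ : Fin D.n) ∈ MulAction.orbit P (⟨x, hx⟩ : Fin D.n) := by
    refine s1 (fun c => ∃ hc : c < D.n, (⟨c, hc⟩ : Fin D.n) ∈ MulAction.orbit P (⟨x, hx⟩ : Fin D.n))
      (fun c hc => ?_) (fun p w hp hw => ?_)
    · rw [Nat.testBit_two_pow, decide_eq_true_eq] at hc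
      subst hc
      exact ⟨hx, MulAction.mem_orbit_self _⟩
    · obtain ⟨hp, a, ha⟩ := hp
      have hw' : w ∈ ws := by simpa [withWords] using hw
      refine ⟨pathEnd_lt M.tables w (hlet' w hw') hp, ⟨ev gen w, hwP w hw'⟩ * a, ?_⟩
      show (⟨ev gen w, hwP w hw'⟩ * a) • (⟨x, hx⟩ : Fin D.n) = _
      rw [mul_smul, show a • (⟨x, hx⟩ : Fin D.n) = ⟨p, hp⟩ from ha]
      exact Fin.ext (M.act_ev w (hlet' w hw') _)
  have horb : l.length + 1 ≤ (MulAction.orbit P (⟨x, hx⟩ : Fin D.n)).ncard := by
    have hinj : (S' : Set ℕ) ⊆ Fin.val '' MulAction.orbit P (⟨x, hx⟩ : Fin D.n) := fun c hc => by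
      obtain ⟨hc', hm⟩ := hreach c ((hS' c).mp hc)
      exact ⟨_, hm, rfl⟩
    have := Set.ncard_le_ncard hinj (Set.toFinite _)
    rw [Set.ncard_coe_finset, hcard, Finset.card_singleton,
      Set.ncard_image_of_injective _ Fin.val_injective] at this
    omega
  have hstab : Nat.card (MulAction.stabilizer P (⟨x, hx⟩ : Fin D.n)) =
      Nat.card (fixSub M.act (x :: pts)) := by
    refine Nat.card_congr ⟨fun a => ⟨(a : P).1, fun c hc => ?_⟩,
      fun a => ⟨⟨a.1, fun c hc => a.2 c (List.mem_cons_of_mem _ hc)⟩, a.2 ⟨x, hx⟩ (by simp)⟩,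
      fun _ => rfl, fun _ => rfl⟩
    rcases List.mem_cons.mp hc with hc | hc
    · obtain rfl : c = ⟨x, hx⟩ := Fin.ext hc
      exact a.2
    · exact (a : P).2 c hc
  calc
    (l.length + 1) * Nat.card (fixSub M.act (x :: pts)) ≤
        (MulAction.orbit P (⟨x, hx⟩ : Fin D.n)).ncard *
          Nat.card (MulAction.stabilizer P (⟨x, hx⟩ : Fin D.n)) := by
      rw [hstab]; exact Nat.mul_le_mul horb le_rfl
    _ = Nat.card P := by
      rw [← Nat.card_coe_set_eq, ← Nat.card_prod]
      exact Nat.card_congr (MulAction.orbitProdStabilizerEquivGroup P _)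

theorem Model.chain_bound_aux (M : Model D gen H) [Finite G] (N : Subgroup G)
    (hN : ∀ a ∈ N, M.act a = 1) :
    ∀ (ls : List Level) (pts : List ℕ), chainOK D pts ls = true →
      chainProd ls * Nat.card N ≤ Nat.card (fixSub M.act pts) := by
  intro ls
  induction ls with
  | nil =>
    intro pts _
    simp only [chainProd, Nat.one_mul]
    refine Nat.le_of_dvd Nat.card_pos (Subgroup.card_dvd_of_le fun a ha c _ => ?_)
    rw [hN a ha]; rfl
  | cons L ls ih =>
    intro pts h
    simp only [chainOK, Bool.and_eq_true] at h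
    calc chainProd (L :: ls) * Nat.card N = (L.2.2.length + 1) * (chainProd ls * Nat.card N) := by
          simp [chainProd, Nat.mul_assoc]
      _ ≤ (L.2.2.length + 1) * Nat.card (fixSub M.act (L.1 :: pts)) :=
          Nat.mul_le_mul le_rfl (ih _ h.2)
      _ ≤ Nat.card (fixSub M.act pts) := M.chain_step h.1

theorem Model.chain_bound (M : Model D gen H) [Finite G] {ls : List Level}
    (h : chainOK D [] ls = true) : chainProd ls * Nat.card H.normalCore ≤ Nat.card G :=
  (M.chain_bound_aux _ (fun _ ha => M.act_normalCore ha) ls [] h).trans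
    (Nat.le_of_dvd Nat.card_pos (Subgroup.card_subgroup_dvd_card _))

/-- if the chain reaches the order then the action is faithful -/
theorem Model.order_eq (M : Model D gen H) [Finite G] {ls : List Level} {N : ℕ}
    (h : chainOK D [] ls = true) (hN : chainProd ls = N) (hG : Nat.card G ≤ N) :
    Nat.card G = N ∧ H.normalCore = ⊥ := by
  have h1 := M.chain_bound h
  rw [hN] at h1
  have hp : 0 < N := lt_of_lt_of_le Nat.card_pos hG
  have h2 : 0 < Nat.card H.normalCore := Nat.card_pos
  have h3 : N ≤ N * Nat.card H.normalCore := Nat.le_mul_of_pos_right N h2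
  refine ⟨by omega, Subgroup.card_eq_one.mp (le_antisymm ?_ h2)⟩
  exact Nat.le_of_mul_le_mul_left (show N * Nat.card H.normalCore ≤ N * 1 by omega) hp

end CosetI
end H93

namespace H93
namespace CosetI

open scoped Pointwise

/-- an entry `O c` is depth · 2^28 + predecessor · 16 + word -/
noncomputable def otreeOK (D : Data) (m q : ℕ) (O : ℕ → ℕ) (lo len : ℕ) : Bool :=
  allRange lo len fun c => !(Nat.testBit m c) || Nat.beq c q ||
    (force (O c) fun e => force (e / 16 % 16777216) fun p =>
      Nat.testBit m p && Nat.blt (O p / 268435456) (e / 268435456) && Nat.blt p D.n &&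
        match D.words[D.nrel + e % 16]? with
        | none => false
        | some w => walk D.T w p fun x => Nat.beq x c)

noncomputable def oclosedOK (D : Data) (m lo len : ℕ) : Bool :=
  allRange lo len fun c => !(Nat.testBit m c) ||
    (D.words.drop D.nrel).all fun w => walk D.T w c fun e => Nat.testBit m e

/-- the number of set bits among the first `len` bits from `lo` on -/
noncomputable def bitCount (m lo len : ℕ) : ℕ :=
  Nat.rec (motive := fun _ => ℕ) 0 (fun k ih => bif Nat.testBit m (lo + k) then ih + 1 else ih) len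

theorem bitCount_eq (m lo len : ℕ) :
    bitCount m lo len = ((Finset.Ico lo (lo + len)).filter fun i => Nat.testBit m i = true).card := by
  induction len with
  | zero => simp [bitCount]
  | succ k ih =>
    show (bif Nat.testBit m (lo + k) then bitCount m lo k + 1 else bitCount m lo k) = _
    rw [← Nat.add_assoc, ← Finset.insert_Ico_right_eq_Ico_add_one (Nat.le_add_right lo k),
      Finset.filter_insert]
    cases h : Nat.testBit m (lo + k)
    · simp [ih]
    · rw [if_pos rfl, Finset.card_insert_of_notMem (by simp)]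
      simp [ih]

variable {D : Data} {G : Type*} [Group G] {gen : ℕ → G} {H : Subgroup G}

theorem Model.orbit_eq_tree (M : Model D gen H) {m q k : ℕ} {O : ℕ → ℕ} (hq : q < D.n)
    (hmq : Nat.testBit m q = true) (htree : otreeOK D m q O 0 D.n = true)
    (hclosed : oclosedOK D m 0 D.n = true) (hcount : bitCount m 0 D.n = k) :
    MulAction.orbit H (cosetOf D gen H ⟨q, hq⟩) = cosetOf D gen H '' {c | Nat.testBit m c = true} ∧
    (MulAction.orbit H (cosetOf D gen H ⟨q, hq⟩)).ncard = k := by
  have hlet : ∀ w ∈ D.words.drop D.nrel, ∀ g ∈ w, g < D.ng :=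
    fun w hw => M.tables.mem_letters w (List.mem_of_mem_drop hw)
  have hwH : ∀ w ∈ D.words.drop D.nrel, ev gen w ∈ H := fun w hw => by
    rw [M.subgroup]; exact Subgroup.subset_closure ⟨w, hw, rfl⟩
  have hreach : ∀ d c (hc : c < D.n), Nat.testBit m c = true → O c / 268435456 = d →
      cosetOf D gen H ⟨c, hc⟩ ∈ MulAction.orbit H (cosetOf D gen H ⟨q, hq⟩) := by
    intro d
    induction d using Nat.strong_induction_on with
    | _ d ih =>
      intro c hc hm hd
      by_cases hcq : c = q
      · subst hcq; exact MulAction.mem_orbit_self _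
      have h := allRange_spec htree c (Nat.zero_le _) (by omega)
      have hbeq : Nat.beq c q = false := by simpa [Nat.beq_eq, ← Bool.not_eq_true] using hcq
      simp only [hm, Bool.not_true, Bool.false_or, hbeq, force_eq, Bool.and_eq_true, Data.blt_iff] at h
      obtain ⟨⟨⟨hp, hdep⟩, hpn⟩, hm'⟩ := h
      split at hm'
      · exact absurd hm' (by simp)
      rename_i w hw
      simp only [walk_eq, Nat.beq_eq] at hm'
      have hw' : w ∈ D.words.drop D.nrel :=
        List.mem_of_getElem? (i := O c % 16) (by rw [List.getElem?_drop]; exact hw)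
      obtain ⟨a, ha⟩ := ih _ (hd ▸ hdep) _ hpn hp rfl
      refine ⟨⟨ev gen w, hwH w hw'⟩ * a, ?_⟩
      show (⟨ev gen w, hwH w hw'⟩ * a) • cosetOf D gen H ⟨q, hq⟩ = _
      rw [mul_smul, show a • cosetOf D gen H ⟨q, hq⟩ = _ from ha]
      show ev gen w • cosetOf D gen H ⟨O c / 16 % 16777216, hpn⟩ = _
      rw [M.ev_smul_cosetOf w (hlet w hw') ⟨_, hpn⟩]
      exact congrArg _ (Fin.ext hm')
  have heq : MulAction.orbit H (cosetOf D gen H ⟨q, hq⟩) =
      cosetOf D gen H '' {c | Nat.testBit m c = true} := by
    refine Set.Subset.antisymm ?_ ?_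
    · rintro _ ⟨⟨a, ha⟩, rfl⟩
      set S := cosetOf D gen H '' {c | Nat.testBit m c = true} with hS
      suffices key : a ∈ MulAction.stabilizer G S by
        have h1 : a • cosetOf D gen H ⟨q, hq⟩ ∈ a • S := Set.smul_mem_smul_set ⟨⟨q, hq⟩, hmq, rfl⟩
        rwa [key] at h1
      refine (show H ≤ MulAction.stabilizer G S from ?_) ha
      refine le_of_eq_of_le M.subgroup ((Subgroup.closure_le _).mpr ?_)
      rintro _ ⟨w, hw, rfl⟩
      have hsub : ev gen w • S ⊆ S := by
        rintro _ ⟨_, ⟨c, hc, rfl⟩, rfl⟩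
        refine ⟨⟨pathEnd D.T w c, pathEnd_lt M.tables w (hlet w hw) c.2⟩, ?_,
          (M.ev_smul_cosetOf w (hlet w hw) c).symm⟩
        have h1 := allRange_spec hclosed c.1 (Nat.zero_le _) (by omega)
        simp only [Set.mem_ofPred_eq] at hc
        simp only [hc, Bool.not_true, Bool.false_or, List.all_eq_true, walk_eq] at h1
        exact h1 w hw
      have hfin : Finite (G ⧸ H) := Finite.of_equiv _ (Equiv.ofBijective _ M.bijective)
      refine Set.eq_of_subset_of_ncard_le hsub ?_ (Set.toFinite _)
      exact le_of_eq (Set.ncard_image_of_injective _ (MulAction.injective _)).symm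
    · rintro _ ⟨c, hc, rfl⟩
      exact hreach _ c c.2 hc rfl
  refine ⟨heq, ?_⟩
  rw [heq, Set.ncard_image_of_injective _ M.bijective.injective,
    ← Set.ncard_image_of_injective _ Fin.val_injective, ← hcount, bitCount_eq,
    ← Set.ncard_coe_finset]
  congr 1
  ext i
  simp only [Set.mem_image, Set.mem_ofPred_eq, Finset.coe_filter, Finset.mem_Ico]
  exact ⟨fun ⟨c, hc, e⟩ => e ▸ ⟨⟨Nat.zero_le _, by omega⟩, hc⟩, fun ⟨⟨_, h2⟩, h⟩ => ⟨⟨i, by omega⟩, h, rfl⟩⟩

theorem Model.fixSub_zero (M : Model D gen H) : fixSub M.act [0] = H := by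
  have h0 : cosetOf D gen H ⟨0, M.tables.pos⟩ = ((1 : G) : G ⧸ H) := Data.node_zero
  ext a
  constructor
  · intro ha
    have h1 := M.act_apply a ⟨0, M.tables.pos⟩
    rw [ha ⟨0, M.tables.pos⟩ (by simp), h0,
      show a • ((1 : G) : G ⧸ H) = ((a * 1 : G) : G ⧸ H) from rfl, QuotientGroup.eq] at h1
    simpa using h1
  · intro ha c hc
    obtain rfl : c = ⟨0, M.tables.pos⟩ := Fin.ext (by simpa using hc)
    apply M.bijective.injective
    rw [M.act_apply, h0, show a • ((1 : G) : G ⧸ H) = ((a * 1 : G) : G ⧸ H) from rfl, QuotientGroup.eq]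
    simpa using ha

/-- the order from a chain that starts at the stabiliser of the first node -/
theorem Model.order_eq_tail (M : Model D gen H) [Finite G] {ls : List Level} {N : ℕ}
    (h : chainOK D [0] ls = true) (hN : D.n * chainProd ls = N) (hG : Nat.card G ≤ N) :
    Nat.card G = N ∧ H.normalCore = ⊥ := by
  have h1 := M.chain_bound_aux H.normalCore (fun _ ha => M.act_normalCore ha) ls [0] h
  rw [M.fixSub_zero] at h1
  have h4 : D.n * (chainProd ls * Nat.card H.normalCore) ≤ Nat.card G := by
    rw [← H.index_mul_card, M.index_eq]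
    exact Nat.mul_le_mul le_rfl h1
  rw [← Nat.mul_assoc, hN] at h4
  have hp : 0 < N := lt_of_lt_of_le Nat.card_pos hG
  have h2 : 0 < Nat.card H.normalCore := Nat.card_pos
  have h3 : N ≤ N * Nat.card H.normalCore := Nat.le_mul_of_pos_right N h2
  refine ⟨by omega, Subgroup.card_eq_one.mp (le_antisymm ?_ h2)⟩
  exact Nat.le_of_mul_le_mul_left (show N * Nat.card H.normalCore ≤ N * 1 by omega) hp

/-- simplicity from orbit certificates given as (mask, first node, certificate) -/
theorem Model.simple_of_orbit_masks (M : Model D gen H) [Finite G] (hcore : H.normalCore = ⊥)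
    (orbs : List (ℕ × ℕ × ℕ))
    (hok : ∀ o ∈ orbs, ∃ hq : o.2.1 < D.n,
      MulAction.orbit H (cosetOf D gen H ⟨o.2.1, hq⟩) =
          cosetOf D gen H '' {c | Nat.testBit o.1 c = true} ∧
        (MulAction.orbit H (cosetOf D gen H ⟨o.2.1, hq⟩)).ncard = o.2.2)
    (hzero : ∀ o ∈ orbs, Nat.testBit o.1 0 = false)
    (hdis : orbs.Pairwise fun a b => a.1 &&& b.1 = 0)
    (hn : 1 < D.n) (hsum : (orbs.map fun o => o.2.2).sum + 1 = D.n)
    (harith : ∀ s ∈ Coset.subsums (orbs.map fun o => o.2.2), (s + 1) ∣ D.n → s = 0 ∨ s + 1 = D.n)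
    (w : G) {k h : ℕ} (hG : Nat.card G = D.n * h) (hk : w ^ k = 1) (hco : Nat.Coprime k h)
    (hcollapse : ∀ N : Subgroup G, N.Normal → w ∈ N → N = ⊤) : IsSimpleGroup G := by
  have hcard : Nat.card (G ⧸ H) = D.n := M.index_eq
  classical
  let qf : ℕ × ℕ × ℕ → G ⧸ H := fun o =>
    if hq : o.2.1 < D.n then cosetOf D gen H ⟨o.2.1, hq⟩ else ((1 : G) : G ⧸ H)
  have hor : ∀ o ∈ orbs, MulAction.orbit H (qf o) =
        cosetOf D gen H '' {c | Nat.testBit o.1 c = true} ∧
      (MulAction.orbit H (qf o)).ncard = o.2.2 := by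
    intro o ho
    obtain ⟨hq, h1, h2⟩ := hok o ho
    simp only [qf, dif_pos hq]
    exact ⟨h1, h2⟩
  refine Coset.simple_of_orbits (H := H) hn hcard hcore (orbs.map qf)
    (orbs.map fun o => o.2.2) ?_ hsum ?_ ?_ harith w hG hk hco hcollapse
  · rw [List.map_map]
    exact List.map_congr_left fun o ho => (hor o ho).2
  · rw [List.map_map, List.pairwise_map]
    refine hdis.imp_of_mem fun {a b} ha hb hab => ?_
    simp only [Function.comp_apply, (hor a ha).1, (hor b hb).1]
    rw [Set.disjoint_image_iff M.bijective.injective, Set.disjoint_left]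
    intro c hca hcb
    have := congrArg (fun m => Nat.testBit m c) hab
    simp only [Set.mem_ofPred_eq] at hca hcb
    simp [hca, hcb] at this
  · intro q hq hmem
    obtain ⟨o, ho, rfl⟩ := List.mem_map.mp hq
    rw [(hor o ho).1] at hmem
    obtain ⟨c, hc, he⟩ := hmem
    have h0 : cosetOf D gen H ⟨0, M.tables.pos⟩ = ((1 : G) : G ⧸ H) := Data.node_zero
    rw [← h0] at he
    obtain rfl := M.bijective.injective he
    simp [hzero o ho] at hc

/-- the points of a chain, added to some points -/
def chainPts : List ℕ → List Level → List ℕ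
  | pts, [] => pts
  | pts, L :: ls => chainPts (L.1 :: pts) ls

theorem Model.chain_bound_last (M : Model D gen H) [Finite G] :
    ∀ (ls : List Level) (pts : List ℕ), chainOK D pts ls = true →
      chainProd ls * Nat.card (fixSub M.act (chainPts pts ls)) ≤ Nat.card (fixSub M.act pts) := by
  intro ls
  induction ls with
  | nil => intro pts _; simp [chainProd, chainPts]
  | cons L ls ih =>
    intro pts h
    simp only [chainOK, Bool.and_eq_true] at h
    calc chainProd (L :: ls) * Nat.card (fixSub M.act (chainPts pts (L :: ls))) =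
          (L.2.2.length + 1) * (chainProd ls * Nat.card (fixSub M.act (chainPts (L.1 :: pts) ls))) := by
          simp [chainProd, chainPts, Nat.mul_assoc]
      _ ≤ (L.2.2.length + 1) * Nat.card (fixSub M.act (L.1 :: pts)) :=
          Nat.mul_le_mul le_rfl (ih _ h.2)
      _ ≤ Nat.card (fixSub M.act pts) := M.chain_step h.1

/-- once the chain reaches the order, a word fixing its points is trivial -/
theorem Model.eq_one_of_fix_base (M : Model D gen H) [Finite G] {ls : List Level}
    (h : chainOK D [0] ls = true) (hG : Nat.card G = D.n * chainProd ls) {w : List ℕ}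
    (hw : ∀ g ∈ w, g < D.ng)
    (hfix : ∀ p ∈ chainPts [0] ls, pathEnd D.T w p = p) : ev gen w = 1 := by
  have h1 := M.chain_bound_last ls [0] h
  rw [M.fixSub_zero] at h1
  have h2 : Nat.card H = chainProd ls := by
    have := H.index_mul_card
    rw [M.index_eq, hG] at this
    exact Nat.eq_of_mul_eq_mul_left M.tables.pos this
  have hp : 0 < chainProd ls := h2 ▸ Nat.card_pos
  have h3 : fixSub M.act (chainPts [0] ls) = ⊥ := by
    refine Subgroup.card_eq_one.mp (le_antisymm ?_ Nat.card_pos)
    exact Nat.le_of_mul_le_mul_left (show _ ≤ chainProd ls * 1 by omega) hp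
  have hmem : ev gen w ∈ fixSub M.act (chainPts [0] ls) := fun c hc =>
    Fin.ext ((M.act_ev w hw c).trans (hfix c hc))
  rwa [h3, Subgroup.mem_bot] at hmem

/-- the table as a bijection with the cosets: lower bound for the index -/
theorem Model.card_quot (M : Model D gen H) : Nat.card (G ⧸ H) = D.n := M.index_eq

end CosetI
end H93
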