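import Mathlib
import Cfsg.Prelude.Def_SporCoxeter
import Cfsg.Agent.H93.CI.Index

/-!
Words in generator numbers, with a number for each inverse, attached to free group elements.
-/

set_option autoImplicit false

namespace H93
namespace CosetI

variable {α : Type} [DecidableEq α]

/-- the word in letters evaluating (in reverse order) to a free group element -/
def wordOf (ix : α → ℕ) (iv : ℕ → ℕ) (r : FreeGroup α) : List ℕ :=
  (r.toWord.map fun p => bif p.2 then ix p.1 else iv (ix p.1)).reverse

theorem lift_eq_ev {G : Type*} [Group G] (f : α → G) (gen : ℕ → G) (ix : α → ℕ) (iv : ℕ → ℕ)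
    (hgen : ∀ a, gen (ix a) = f a) (hinv : ∀ a, gen (iv (ix a)) = (f a)⁻¹) (r : FreeGroup α) :
    FreeGroup.lift f r = ev gen (wordOf ix iv r) := by
  have h : ∀ L : List (α × Bool), FreeGroup.lift f (FreeGroup.mk L) =
      (L.map fun p => gen (bif p.2 then ix p.1 else iv (ix p.1))).prod := by
    intro L
    rw [FreeGroup.lift_mk]
    congr 1
    refine List.map_congr_left fun p _ => ?_
    cases p.2
    · simp only [cond_false, hinv]
    · simp [hgen]
  conv_lhs => rw [← FreeGroup.mk_toWord (x := r)]
  rw [h, ev_eq_prod, wordOf, List.map_reverse, List.reverse_reverse, List.map_map]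
  rfl

/-- all relators of the presentation, as a list -/
def relList (edges : List (α × ℕ × α)) (extra : List (FreeGroup α)) : List (FreeGroup α) :=
  ((Cfsg.Spor.coxNodes edges).flatMap fun x => (Cfsg.Spor.coxNodes edges).map fun y =>
    (FreeGroup.of x * FreeGroup.of y) ^ Cfsg.Spor.coxLabel edges x y) ++ extra

theorem mem_relList {edges : List (α × ℕ × α)} {extra : List (FreeGroup α)} {r : FreeGroup α} :
    r ∈ relList edges extra ↔ r ∈ Cfsg.Spor.coxRelators edges ∪ {r | r ∈ extra} := by
  simp only [relList, List.mem_append, List.mem_flatMap, List.mem_map, Set.mem_union,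
    Cfsg.Spor.coxRelators, Set.mem_ofPred_eq, eq_comm (a := r)]

end CosetI
end H93
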