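import Mathlib
import Cfsg.Agent.H93.CI.Index

/-!
Checks that relators fix every node. A relator `(x y)^m` in two involutions need only be tested at
one end of every edge with the letter `x`.
-/

set_option autoImplicit false

namespace H93
namespace CosetI

variable (D : Data)

noncomputable def walkF (w : List ℕ) (k : ℕ → Bool) : ℕ → Bool :=
  List.rec (motive := fun _ => ℕ → Bool) k
    (fun g _ ih c => force (Nat.land (D.EN g c) 131071) ih) w

theorem walkF_eq (w : List ℕ) (k : ℕ → Bool) (c : ℕ) : walkF D w k c = k (pathEnd D.T w c) := by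
  induction w generalizing c with
  | nil => rfl
  | cons g w ih =>
    show force (Nat.land (D.EN g c) 131071) (walkF D w k) = _
    rw [force_eq, ih]; rfl

noncomputable def fixAll (w : List ℕ) (lo len : ℕ) : Bool :=
  allRange lo len fun c => walkF D w (fun e => Nat.beq e c) c

noncomputable def fixHalf (x : ℕ) (w : List ℕ) (lo len : ℕ) : Bool :=
  allRange lo len fun c =>
    bor (Nat.blt (Nat.land (D.EN x c) 131071) c) (walkF D w (fun e => Nat.beq e c) c)

theorem fixAll_spec {w : List ℕ} {lo len : ℕ} (h : fixAll D w lo len = true) {c : ℕ}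
    (h1 : lo ≤ c) (h2 : c < lo + len) : pathEnd D.T w c = c := by
  simpa [walkF_eq] using allRange_spec h c h1 h2

theorem fixHalf_spec {x : ℕ} {w : List ℕ} {lo len : ℕ} (h : fixHalf D x w lo len = true) {c : ℕ}
    (h1 : lo ≤ c) (h2 : c < lo + len) : D.T x c < c ∨ pathEnd D.T w c = c := by
  have := allRange_spec h c h1 h2
  simpa [walkF_eq, bor_iff, Data.blt_iff, Data.T] using this

theorem allRange_glue {lo a b : ℕ} {f : ℕ → Bool} (h1 : allRange lo a f = true)
    (h2 : allRange (lo + a) b f = true) : allRange lo (a + b) f = true := by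
  induction b with
  | zero => simpa using h1
  | succ b ih =>
    have h' : allRange (lo + a) b f = true ∧ f (lo + a + b) = true := by
      have hh : Bool.rec (motive := fun _ => Bool) false (f (lo + a + b)) (allRange (lo + a) b f) = true := h2
      cases hm : allRange (lo + a) b f <;> simp [hm] at hh
      exact ⟨rfl, hh⟩
    show Bool.rec (motive := fun _ => Bool) false (f (Nat.add lo (a + b))) (allRange lo (a + b) f) = true
    rw [ih h'.1]
    show f (lo + (a + b)) = true
    rw [← Nat.add_assoc, h'.2]

/-- a power of a product of two involutions fixing one end of every edge of the first fixes all -/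
theorem fix_of_half (ht : Tables D) {x y m : ℕ} (hx : x < D.ng) (hy : y < D.ng)
    (hix : D.iv x = x) (hiy : D.iv y = y)
    (h : ∀ c < D.n, D.T x c < c ∨ pathEnd D.T (List.replicate m [x, y]).flatten c = c) :
    ∀ c < D.n, pathEnd D.T (List.replicate m [x, y]).flatten c = c := by
  set w := (List.replicate m [x, y]).flatten with hwdef
  have hw : ∀ g ∈ w, g < D.ng := by
    intro g hg
    simp only [hwdef, List.mem_flatten, List.mem_replicate] at hg
    obtain ⟨l, ⟨-, rfl⟩, hg⟩ := hg
    simp at hg
    rcases hg with rfl | rfl <;> assumption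
  intro c hc
  set X := perm D x with hX
  set Y := perm D y with hY
  have hX2 : X * X = 1 := by simpa [hix] using perm_inv ht hx
  have hY2 : Y * Y = 1 := by simpa [hiy] using perm_inv ht hy
  have hP : ev (perm D) w = (Y * X) ^ m := by
    clear hw
    rw [hwdef]
    clear hwdef h
    induction m with
    | zero => simp [ev]
    | succ m ih =>
      rw [List.replicate_succ, List.flatten_cons, ev_append, ih, pow_succ]
      simp [ev, hX, hY]
  have key : ∀ d : Fin D.n, pathEnd D.T w d = d → pathEnd D.T w (X d : ℕ) = (X d : ℕ) := by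
    intro d hd
    have h1 : ((Y * X) ^ m) d = d := by
      rw [← hP]; exact Fin.ext ((ev_perm_apply ht w hw d).trans hd)
    have h2 : ((Y * X) ^ m)⁻¹ d = d := by
      rw [Equiv.Perm.inv_eq_iff_eq]; exact h1.symm
    have hc : ((Y * X) ^ m)⁻¹ = X * (Y * X) ^ m * X⁻¹ := by
      rw [← conj_pow, ← inv_pow, mul_inv_rev, inv_eq_of_mul_eq_one_right hX2,
        inv_eq_of_mul_eq_one_right hY2, mul_assoc X, mul_assoc Y, hX2, mul_one]
    have h3 : ((Y * X) ^ m) (X⁻¹ d) = X⁻¹ d := by
      apply X.injective
      have := h2
      rw [hc, Equiv.Perm.mul_apply, Equiv.Perm.mul_apply] at this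
      rw [this]; simp
    rw [inv_eq_of_mul_eq_one_right hX2] at h3
    have h4 := ev_perm_apply ht w hw (X d)
    rw [hP, h3] at h4
    exact h4.symm
  rcases h c hc with hlt | hfix
  · obtain ⟨hb, hbc, -, -⟩ := ht.closed hx hc
    rw [hix] at hbc
    rcases h _ hb with hlt' | hfix'
    · omega
    · have := key ⟨D.T x c, hb⟩ hfix'
      rw [hX, perm_apply ht hx] at this
      simpa [hbc] using this
  · exact hfix

end CosetI
end H93
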